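import Cfsg.Agent.Lib.HJ.Small
import Cfsg.Agent.Lib.HJ.Five
import Mathlib.GroupTheory.GroupAction.Quotient

/-!
A complement of the extraspecial subgroup inside the centraliser of a pair `z`, `f`, where `f` is an
element of order five of the component inverted by `z`.
-/

set_option autoImplicit false
set_option linter.style.haveILetI false
set_option maxRecDepth 8000
set_option synthInstance.maxSize 4000
set_option synthInstance.maxHeartbeats 400000

namespace Cfsg.Agent.HJUniq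

open Cfsg.Agent.HJ

/-- A permutation of five points fixing `0` which commutes with a four-group on the other points
and with an element cycling it is trivial. -/
theorem rigid_four : ∀ p : Equiv.Perm (Fin 5), p 0 = 0 → p * p = 1 → p ≠ 1 →
    ∀ q : Equiv.Perm (Fin 5), q 0 = 0 → p * q = q * p → q * q = 1 →
    ∀ r : Equiv.Perm (Fin 5), r 0 = 0 → r * p = q * r → r * q = p * q * r →
    ∀ π : Equiv.Perm (Fin 5), π 0 = 0 → π * p = p * π → π * q = q * π → π * r = r * π → π = 1 := by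
  decide +kernel

variable {G : Type*} [Group G] [Finite G] {z : G} {Q : Subgroup G}
  {φ : ↥(Subgroup.centralizer ({z} : Set G)) →* A5} {u a x s : G} {K V : Subgroup G}

/-- The transport of `rigid_four` to any five-element set with a marked point. -/
theorem rigid_five {Ω : Type*} [Finite Ω] (hc : Nat.card Ω = 5) (o : Ω) (p q r π : Equiv.Perm Ω)
    (p0 : p o = o) (q0 : q o = o) (r0 : r o = o) (π0 : π o = o) (hp : p * p = 1) (hp1 : p ≠ 1)
    (hpq : p * q = q * p) (hq : q * q = 1) (hr1 : r * p = q * r) (hr2 : r * q = p * q * r)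
    (c1 : π * p = p * π) (c2 : π * q = q * π) (c3 : π * r = r * π) : π = 1 := by
  obtain ⟨e0⟩ : Nonempty (Ω ≃ Fin 5) := ⟨(Finite.equivFin Ω).trans (finCongr hc)⟩
  set e := e0.trans (Equiv.swap (e0 o) 0)
  have ho : e o = 0 := by simp [e]
  let F := e.permCongrHom
  have fo : ∀ g : Equiv.Perm Ω, g o = o → F g 0 = 0 := fun g hg => by
    show e (g (e.symm 0)) = 0
    rw [show e.symm 0 = o by rw [← ho, e.symm_apply_apply], hg, ho]
  have fm : ∀ g h : Equiv.Perm Ω, F g * F h = F (g * h) := fun g h => (map_mul F g h).symm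
  have h := rigid_four (F p) (fo p p0) (by rw [fm, hp, map_one])
    (fun h => hp1 (F.injective (h.trans (map_one F).symm))) (F q) (fo q q0) (by rw [fm, fm, hpq])
    (by rw [fm, hq, map_one]) (F r) (fo r r0) (by rw [fm, fm, hr1]) (by rw [fm, fm, fm, hr2])
    (F π) (fo π π0) (by rw [fm, fm, c1]) (by rw [fm, fm, c2]) (by rw [fm, fm, c3])
  exact F.injective (h.trans (map_one F).symm)

variable (C : Ctx z Q φ u a x s K V) {f : G}

/-- An element of the component inverted by `z`. -/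
structure InvFive (z : G) (K : Subgroup G) (f : G) : Prop where
  mem : f ∈ K
  five : f ^ 5 = 1
  ne : f ≠ 1
  inv : z * f * z = f⁻¹

include C

omit [Finite G] in
theorem zf_ne (hf : InvFive z K f) : z * f ≠ f * z := fun h => by
  have h1 : f = f⁻¹ := by
    rw [← hf.inv, h, mul_assoc, C.S.zz, mul_one]
  have h2 : f * f = 1 := by
    nth_rw 2 [h1]
    exact mul_inv_cancel f
  apply hf.ne
  calc f = f * ((f * f) * (f * f)) := by rw [h2]; simp
    _ = f ^ 5 := by simp only [pow_succ, pow_zero, one_mul, mul_assoc]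
    _ = 1 := hf.five

omit [Finite G] in
theorem isF0_of (hf : InvFive z K f) : IsF0 K f := ⟨hf.five, hf.ne, 1, by simpa using hf.mem⟩

theorem cent_f (hf : InvFive z K f) :
    Nat.card (Subgroup.centralizer ({f} : Set G)) = 300 :=
  (C.F0_facts (isF0_of C hf)).1

/-- The elements of `C(f)` centralising `s`. -/
theorem mem_cent_s_f (hf : InvFive z K f) {c : G} (hcs : c * s = s * c) (hcf : c * f = f * c) :
    ∃ i : ℤ, ∃ v ∈ V, c = f ^ i * v := by
  obtain ⟨k, hk, v, hv, rfl⟩ := C.D.decomp c hcs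
  have hkf : k * f = f * k := by
    have hvf : v * f = f * v := (C.D.comm f hf.mem v hv).symm
    calc k * f = k * (f * v) * v⁻¹ := by group
      _ = k * (v * f) * v⁻¹ := by rw [hvf]
      _ = (k * v * f) * v⁻¹ := by group
      _ = (f * (k * v)) * v⁻¹ := by rw [hcf]
      _ = f * k := by group
  have h5 := C.card_cent_K (p := 5) (Or.inr rfl) hf.mem hf.five hf.ne
  have heq : Subgroup.zpowers f = K ⊓ Subgroup.centralizer ({f} : Set G) := by
    refine Subgroup.eq_of_le_of_card_ge ?_ ?_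
    · rw [Subgroup.zpowers_le]; exact ⟨hf.mem, mem_cent.2 rfl⟩
    · haveI : Fact (Nat.Prime 5) := ⟨Nat.prime_five⟩
      rw [h5, Nat.card_zpowers, orderOf_eq_prime hf.five hf.ne]
  obtain ⟨i, hi⟩ := Subgroup.mem_zpowers_iff.1
    (show k ∈ Subgroup.zpowers f by rw [heq]; exact ⟨hk, mem_cent.2 hkf⟩)
  exact ⟨i, v, hv, by rw [hi]⟩

omit [Finite G] in
theorem V_facts {v : G} (hv : v ∈ V) :
    v * v = 1 ∧ v * z = z * v ∧ (v ≠ 1 → Outer z Q v) :=
  ⟨(C.D.vdata C.S C.L hv).1.1, (C.D.vdata C.S C.L hv).1.2.1, (C.D.vdata C.S C.L hv).2⟩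

omit [Finite G] in
theorem V_comm {v w : G} (hv : v ∈ V) (hw : w ∈ V) : v * w = w * v := by
  have h := (V_facts C (V.mul_mem hv hw)).1
  calc v * w = (v * w)⁻¹ := (inv_of_sq h).symm
    _ = w⁻¹ * v⁻¹ := mul_inv_rev v w
    _ = w * v := by rw [inv_of_sq (V_facts C hv).1, inv_of_sq (V_facts C hw).1]

omit [Finite G] in
theorem V_cases {v : G} (hv : v ∈ V) : v = 1 ∨ v = s ∨ v = x * s * x⁻¹ ∨ v = s * (x * s * x⁻¹) :=
  (C.D.hV v).1 hv

omit [Finite G] in
theorem V_mem : s ∈ V ∧ x * s * x⁻¹ ∈ V ∧ s * (x * s * x⁻¹) ∈ V :=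
  ⟨(C.D.hV _).2 (Or.inr (Or.inl rfl)), (C.D.hV _).2 (Or.inr (Or.inr (Or.inl rfl))),
    (C.D.hV _).2 (Or.inr (Or.inr (Or.inr rfl)))⟩

omit [Finite G] in
theorem x_conj_V {v : G} (hv : v ∈ V) : x * v * x⁻¹ ∈ V := by
  obtain ⟨h1, h2, h3⟩ := V_mem C
  rcases V_cases C hv with rfl | rfl | rfl | rfl
  · simpa using V.one_mem
  · exact h2
  · rw [C.L.cyc]; exact h3
  · rw [conj_mul', C.L.cyc, C.L.comm, ← mul_assoc, C.L.hs'.2.1, one_mul]
    exact h1

/-- Elements of `C(f)` normalising the four-group `V`. -/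
def stabV (f : G) (V : Subgroup G) : Subgroup G :=
  Subgroup.centralizer ({f} : Set G) ⊓ Subgroup.normalizer (V : Set G)

theorem stab_gens (hf : InvFive z K f) : f ∈ stabV f V ∧ (∀ v ∈ V, v ∈ stabV f V) ∧ x ∈ stabV f V := by
  have hfV : ∀ v ∈ V, f * v * f⁻¹ = v := fun v hv => by
    rw [C.D.comm f hf.mem v hv, mul_inv_cancel_right]
  refine ⟨⟨mem_cent.2 rfl, ?_⟩, fun v hv => ⟨mem_cent.2 (C.D.comm f hf.mem v hv).symm,
    Subgroup.le_normalizer hv⟩, ⟨mem_cent.2 (C.xK f hf.mem), ?_⟩⟩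
  · show f ∈ Subgroup.normalizer (V : Set G)
    rw [Subgroup.mem_normalizer_iff]
    refine fun v => ⟨fun hv => by rw [hfV v hv]; exact hv, fun hv => ?_⟩
    have h := hfV _ hv
    have e : f * v * f⁻¹ = v := mul_left_cancel (mul_right_cancel h)
    rwa [e] at hv
  · show x ∈ Subgroup.normalizer (V : Set G)
    rw [Subgroup.mem_normalizer_iff]
    refine fun v => ⟨x_conj_V C, fun hv => ?_⟩
    have h := x_conj_V C (x_conj_V C hv)
    have h3 : x * x * x = 1 := by rw [← C.L.x3, pow_succ, pow_two]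
    rwa [show x * (x * (x * v * x⁻¹) * x⁻¹) * x⁻¹ = x * x * x * v * (x * x * x)⁻¹ by group, h3,
      one_mul, inv_one, mul_one] at h

/-- An element of `C(f)` normalising `V` either centralises it or moves `s`; it has no involutions
outside `V`. -/
theorem stab_invol (hf : InvFive z K f) {c : G} (hc : c ∈ stabV f V) (hcs : c * s = s * c) (h2 : c * c = 1) :
    c ∈ V := by
  obtain ⟨i, v, hv, rfl⟩ := mem_cent_s_f C hf hcs (mem_cent.1 hc.1)
  have hfv : Commute f v := C.D.comm f hf.mem v hv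
  have hk : f ^ i * f ^ i = 1 := by
    have h : f ^ i * v * (f ^ i * v) = f ^ i * f ^ i * (v * v) := by
      calc f ^ i * v * (f ^ i * v) = f ^ i * (v * f ^ i) * v := by group
        _ = f ^ i * (f ^ i * v) * v := by rw [(hfv.zpow_left i).eq]
        _ = _ := by group
    rw [h, (V_facts C hv).1, mul_one] at h2
    exact h2
  have h5 : (f ^ i) ^ 5 = 1 := by
    rw [← zpow_natCast, ← zpow_mul, mul_comm, zpow_mul, zpow_natCast, hf.five, one_zpow]
  have : f ^ i = 1 := by
    calc f ^ i = f ^ i * ((f ^ i * f ^ i) * (f ^ i * f ^ i)) := by rw [hk]; simp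
      _ = (f ^ i) ^ 5 := by simp only [pow_succ, pow_zero, one_mul, mul_assoc]
      _ = 1 := h5
  rw [this, one_mul]; exact hv

theorem card_V_four : Nat.card V = 4 := by
  have hs1 : s ≠ 1 := C.s_ne
  have hs' : x * s * x⁻¹ ≠ 1 := conj_ne_one x hs1
  have hne := C.L.ne
  have h3 : s * (x * s * x⁻¹) ≠ 1 := fun h => by
    apply hne
    calc x * s * x⁻¹ = s⁻¹ * (s * (x * s * x⁻¹)) := by group
      _ = s := by rw [h, mul_one, inv_of_sq C.L.hs.2.1]
  have hV : (V : Set G) = {1, s, x * s * x⁻¹, s * (x * s * x⁻¹)} := by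
    ext v; simp [C.D.hV v]
  rw [← SetLike.coe_sort_coe, Nat.card_coe_set_eq, hV]
  rw [Set.ncard_insert_of_notMem (by simp [Ne.symm hs1, Ne.symm hs', Ne.symm h3]),
    Set.ncard_insert_of_notMem (by
      simp only [Set.mem_insert_iff, Set.mem_singleton_iff, not_or]
      exact ⟨Ne.symm hne, fun h => hs' (mul_left_cancel (h.symm.trans (mul_one s).symm))⟩),
    Set.ncard_pair (fun h => hs1 (mul_right_cancel (h.symm.trans (one_mul _).symm)))]

theorem card_stab (hf : InvFive z K f) : Nat.card (stabV f V) = 60 := by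
  classical
  set A := stabV f V with hA
  obtain ⟨hfA, hVA, hxA⟩ := stab_gens C hf
  haveI : Fact (Nat.Prime 3) := ⟨Nat.prime_three⟩
  have hin : A ⊓ Subgroup.centralizer ({s} : Set G) =
      Subgroup.centralizer ({s} : Set G) ⊓ Subgroup.centralizer ({f} : Set G) := by
    refine le_antisymm (fun c hc => ⟨hc.2, hc.1.1⟩) fun c hc => ⟨?_, hc.1⟩
    obtain ⟨i, v, hv, rfl⟩ := mem_cent_s_f C hf (mem_cent.1 hc.1) (mem_cent.1 hc.2)
    exact A.mul_mem (A.zpow_mem hfA i) (hVA v hv)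
  have h20 : Nat.card ↥(A ⊓ Subgroup.centralizer ({s} : Set G)) = 20 := by
    rw [hin]
    exact C.card_cent_s (p := 5) (Or.inr rfl) (C.D.hK hf.mem |> mem_cent.1) hf.five hf.ne
  have horb := card_conj_orbit A s
  rw [h20] at horb
  have hle : Nat.card {y : G // ∃ g ∈ A, g * s * g⁻¹ = y} ≤ 3 := by
    refine le_trans ?_ (Finset.card_le_three (a := s) (b := x * s * x⁻¹) (c := s * (x * s * x⁻¹)))
    rw [← Set.ncard_coe_finset]
    refine le_trans (le_of_eq (Nat.card_coe_set_eq {y : G | ∃ g ∈ A, g * s * g⁻¹ = y})) ?_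
    refine Set.ncard_le_ncard ?_ (Set.toFinite _)
    rintro y ⟨g, hg, rfl⟩
    have hV' := (Subgroup.mem_normalizer_iff.1 hg.2 s).1 (V_mem C).1
    rcases V_cases C hV' with e | e | e | e
    · exact absurd e (conj_ne_one g C.s_ne)
    all_goals simp [e]
  have h3 : 3 ∣ Nat.card A := by
    rw [← orderOf_eq_prime C.L.x3 C.x_ne]; exact Subgroup.orderOf_dvd_natCard A hxA
  rw [← horb] at h3 ⊢
  have hpos : 0 < Nat.card {y : G // ∃ g ∈ A, g * s * g⁻¹ = y} := by
    haveI : Nonempty {y : G // ∃ g ∈ A, g * s * g⁻¹ = y} := ⟨⟨s, 1, A.one_mem, by group⟩⟩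
    exact Nat.card_pos
  interval_cases Nat.card {y : G // ∃ g ∈ A, g * s * g⁻¹ = y} <;> omega

omit [Finite G] in
theorem zinv_conj (c : G) : z * (z * c * z) * z = c := by
  calc z * (z * c * z) * z = (z * z) * c * (z * z) := by group
    _ = c := by rw [C.S.zz, one_mul, mul_one]

omit [Finite G] in
theorem z_conj_mul (c d : G) : z * c * z * (z * d * z) = z * (c * d) * z := by
  calc z * c * z * (z * d * z) = z * c * (z * z) * d * z := by group
    _ = z * (c * d) * z := by rw [C.S.zz]; group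

/-- `z` induces the identity on `C(f)` modulo `⟨f⟩`. -/
theorem z_fix_mod (hf : InvFive z K f) {g : G} (hg : g * f = f * g) :
    ∃ i : ℤ, z * g * z = g * f ^ i := by
  classical
  obtain ⟨hfA, hVA, hxA⟩ := stab_gens C hf
  set M := Subgroup.centralizer ({f} : Set G) with hMdef
  set A := (stabV f V).subgroupOf M with hAdef
  have hzM : ∀ {c : G}, c ∈ M → z * c * z ∈ M := fun {c} hc => by
    have hc' : c * f = f * c := mem_cent.1 hc
    apply mem_cent.2
    have hi : c * f⁻¹ = f⁻¹ * c := (Commute.inv_right hc').eq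
    calc z * c * z * f = z * c * (z * f * z) * z⁻¹ := by group
      _ = z * (c * f⁻¹) * z⁻¹ := by rw [hf.inv]; group
      _ = z * (f⁻¹ * c) * z⁻¹ := by rw [hi]
      _ = (z * f⁻¹ * z) * (z * c * z) := by
        rw [C.S.zinv, z_conj_mul C]
      _ = f * (z * c * z) := by
        rw [show z * f⁻¹ * z = f by rw [← hf.inv, zinv_conj C]]
  have hzN : ∀ {c : G}, c ∈ stabV f V → z * c * z ∈ stabV f V := fun {c} hc => by
    refine ⟨hzM hc.1, ?_⟩
    have hzV : z ∈ Subgroup.normalizer (V : Set G) := by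
      rw [Subgroup.mem_normalizer_iff]
      refine fun v => ⟨fun hv => ?_, fun hv => ?_⟩
      · rwa [← (V_facts C hv).2.1, mul_inv_cancel_right]
      · have h := (V_facts C hv).2.1
        have e : z * v * z⁻¹ = v := by
          apply mul_left_cancel (a := z)
          calc z * (z * v * z⁻¹) = z * v * z⁻¹ * z := h.symm
            _ = z * v := by group
        rwa [e] at hv
    exact Subgroup.mul_mem _ (Subgroup.mul_mem _ hzV hc.2) hzV
  let ζ₀ : M → M := fun m => ⟨z * (m : G) * z, hzM m.2⟩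
  have hζinv : ∀ m, ζ₀ (ζ₀ m) = m := fun m => Subtype.ext (zinv_conj C _)
  have hζA : ∀ m n : M, m⁻¹ * n ∈ A → (ζ₀ m)⁻¹ * ζ₀ n ∈ A := fun m n h => by
    rw [Subgroup.mem_subgroupOf] at h ⊢
    have e : (((ζ₀ m)⁻¹ * ζ₀ n : M) : G) = z * (((m⁻¹ * n : M)) : G) * z := by
      show (z * (m : G) * z)⁻¹ * (z * (n : G) * z) = z * ((m : G)⁻¹ * (n : G)) * z
      rw [mul_inv_rev, mul_inv_rev, C.S.zinv, ← mul_assoc z ((m : G)⁻¹) z, z_conj_mul C]
    rw [e]; exact hzN h
  let ζ₁ : M ⧸ A → M ⧸ A := Quotient.map' ζ₀ fun m n h => by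
    rw [QuotientGroup.leftRel_apply] at h ⊢
    exact hζA m n h
  have hζ₁ : ∀ t, ζ₁ (ζ₁ t) = t := fun t => QuotientGroup.induction_on t fun m => by
    show ((ζ₀ (ζ₀ m) : M) : M ⧸ A) = m
    rw [hζinv]
  let π : Equiv.Perm (M ⧸ A) := ⟨ζ₁, ζ₁, hζ₁, hζ₁⟩
  let o : M ⧸ A := ((1 : M) : M ⧸ A)
  let θ := MulAction.toPermHom M (M ⧸ A)
  have hfix : ∀ c : M, (c : G) ∈ stabV f V → θ c o = o := fun c hc => by
    show ((c * 1 : M) : M ⧸ A) = ((1 : M) : M ⧸ A)
    rw [QuotientGroup.eq, mul_one, mul_one]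
    exact A.inv_mem (Subgroup.mem_subgroupOf.2 hc)
  have hAcard : Nat.card A = 60 :=
    (Nat.card_congr (Subgroup.subgroupOfEquivOfLe (inf_le_left : stabV f V ≤ M)).toEquiv).trans (card_stab C hf)
  have hΩ : Nat.card (M ⧸ A) = 5 := by
    have h := A.card_mul_index
    rw [hAcard, cent_f C hf, Subgroup.index] at h
    omega
  -- the kernel
  have kerSub : ∀ c : M, θ c = 1 → (c : G) ∈ stabV f V := fun c hc => by
    have h := Equiv.Perm.congr_fun hc o
    change ((c * 1 : M) : M ⧸ A) = ((1 : M) : M ⧸ A) at h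
    rw [QuotientGroup.eq, mul_one, mul_one] at h
    exact Subgroup.mem_subgroupOf.1 ((Subgroup.inv_mem_iff _).1 h)
  have ker_conj : ∀ c d : M, θ c = 1 → θ (d * c * d⁻¹) = 1 := fun c d hc => by
    rw [map_mul, map_mul, hc, mul_one, ← map_mul, mul_inv_cancel, map_one]
  have hVM : ∀ v ∈ V, v ∈ M := fun v hv => (hVA v hv).1
  have kerV : ∀ v, ∀ hv : v ∈ V, v ≠ 1 → θ ⟨v, hVM v hv⟩ ≠ 1 := by
    intro v hv hv1 h
    -- all conjugates lie among the three involutions of `V`
    have hconj : ∀ d : M, (d : G) * v * (d : G)⁻¹ ∈ V := fun d => by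
      have hk := kerSub _ (ker_conj _ d h)
      change (d : G) * v * (d : G)⁻¹ ∈ stabV f V at hk
      have h2 : (d : G) * v * (d : G)⁻¹ * ((d : G) * v * (d : G)⁻¹) = 1 := conj_sq _ (V_facts C hv).1
      have hsN := (Subgroup.mem_normalizer_iff.1 hk.2 s).1 (V_mem C).1
      -- an involution normalising `V` centralises an involution of `V`
      by_contra hn
      obtain ⟨t, htV, ht1, hct⟩ : ∃ t ∈ V, t ≠ 1 ∧
          (d : G) * v * (d : G)⁻¹ * t = t * ((d : G) * v * (d : G)⁻¹) := by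
        set c := (d : G) * v * (d : G)⁻¹ with hc
        by_cases he : c * s * c⁻¹ = s
        · exact ⟨s, (V_mem C).1, C.s_ne, conj_eq_iff_comm.1 he⟩
        refine ⟨s * (c * s * c⁻¹), V.mul_mem (V_mem C).1 hsN, fun e => he ?_, ?_⟩
        · rw [← inv_eq_of_mul_eq_one_right e, inv_of_sq C.L.hs.2.1]
        · apply conj_eq_iff_comm.1
          rw [conj_mul', conj_conj, h2, inv_one, mul_one, one_mul, V_comm C hsN (V_mem C).1]
      obtain ⟨g, rfl⟩ : ∃ g, t = g * s * g⁻¹ := by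
        rcases V_cases C htV with e | e | e | e
        · exact absurd e ht1
        · exact ⟨1, by simp [e]⟩
        · exact ⟨x, e⟩
        · exact ⟨x * x, by rw [e, ← conj_conj, C.L.cyc]⟩
      have hgx : g * s * g⁻¹ = s ∨ g * s * g⁻¹ = x * s * x⁻¹ ∨ g * s * g⁻¹ = x * (x * s * x⁻¹) * x⁻¹ := by
        rcases V_cases C htV with e | e | e | e
        · exact absurd e ht1
        · exact Or.inl e
        · exact Or.inr (Or.inl e)
        · exact Or.inr (Or.inr (e.trans C.L.cyc.symm))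
      -- move back by a power of `x`
      obtain ⟨p, hpA, hpV, hpt⟩ : ∃ p, p ∈ stabV f V ∧ (∀ w, p * w * p⁻¹ ∈ V → w ∈ V) ∧
          p * (g * s * g⁻¹) * p⁻¹ = s := by
        have hxx : x * x * x = 1 := by rw [← C.L.x3, pow_succ, pow_two]
        have hback : ∀ (p : G), p ∈ stabV f V → ∀ w, p * w * p⁻¹ ∈ V → w ∈ V := fun p hp w hw =>
          (Subgroup.mem_normalizer_iff.1 hp.2 w).2 hw
        rcases hgx with e | e | e
        · exact ⟨1, one_mem _, hback 1 (one_mem _), by simp [e]⟩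
        · refine ⟨x * x, mul_mem hxA hxA, hback _ (mul_mem hxA hxA), ?_⟩
          rw [e, conj_conj, hxx]; simp
        · refine ⟨x, hxA, hback x hxA, ?_⟩
          rw [e, conj_conj, conj_conj, hxx]; simp
      refine hn (hpV _ (stab_invol C hf (mul_mem (mul_mem hpA hk) (inv_mem hpA)) ?_ ?_))
      · have := conj_comm p hct
        rwa [hpt] at this
      · exact conj_sq p h2
    have horb : Nat.card {y : G // ∃ d ∈ M, d * v * d⁻¹ = y} ≤ 3 := by
      refine le_trans ?_ (Finset.card_le_three (a := s) (b := x * s * x⁻¹) (c := s * (x * s * x⁻¹)))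
      rw [← Set.ncard_coe_finset]
      refine le_trans (le_of_eq (Nat.card_coe_set_eq {y : G | ∃ d ∈ M, d * v * d⁻¹ = y})) ?_
      refine Set.ncard_le_ncard ?_ (Set.toFinite _)
      rintro y ⟨d, hd, rfl⟩
      rcases V_cases C (hconj ⟨d, hd⟩) with e | e | e | e
      · exact absurd e (conj_ne_one d hv1)
      all_goals simp [e]
    have horb2 := card_conj_orbit M v
    have hsub : Nat.card ↥(M ⊓ Subgroup.centralizer ({v} : Set G)) = 20 := by
      obtain ⟨g, hg, rfl⟩ : ∃ g, g * f = f * g ∧ v = g * s * g⁻¹ := by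
        rcases V_cases C hv with e | e | e | e
        · exact absurd e hv1
        · exact ⟨1, by simp, by simp [e]⟩
        · exact ⟨x, C.xK f hf.mem, e⟩
        · refine ⟨x * x, mem_cent.1 (mul_mem (mem_cent.2 (C.xK f hf.mem)) (mem_cent.2 (C.xK f hf.mem))), ?_⟩
          rw [e, ← conj_conj, C.L.cyc]
      have hgf : g * f * g⁻¹ = f := conj_eq_iff_comm.2 hg
      show _ = 4 * 5
      rw [← C.card_cent_s (p := 5) (Or.inr rfl) (mem_cent.1 (C.D.hK hf.mem)) hf.five hf.ne]
      refine (Nat.card_congr ((MulAut.conj g).toEquiv.subtypeEquiv fun c => ?_)).symm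
      simp only [Subgroup.mem_inf, mem_cent, MulEquiv.toEquiv_eq_coe, MulEquiv.coe_toEquiv,
        MulAut.conj_apply, M]
      have e1 : g * (c * s) * g⁻¹ = g * c * g⁻¹ * (g * s * g⁻¹) := conj_mul' _ _ _
      have e2 : g * (s * c) * g⁻¹ = g * s * g⁻¹ * (g * c * g⁻¹) := conj_mul' _ _ _
      have e3 : g * (c * f) * g⁻¹ = g * c * g⁻¹ * f := by rw [conj_mul', hgf]
      have e4 : g * (f * c) * g⁻¹ = f * (g * c * g⁻¹) := by rw [conj_mul', hgf]
      rw [and_comm]
      refine and_congr ⟨fun h => by rw [← e3, h, e4], fun h => conj_inj' (a := g) (by rw [e3, h, e4])⟩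
        ⟨fun h => by rw [← e1, h, e2], fun h => conj_inj' (a := g) (by rw [e1, h, e2])⟩
    have h300 : Nat.card M = 300 := cent_f C hf
    rw [hsub, h300] at horb2
    omega
  -- the rigidity
  have hθV : ∀ v (hv : v ∈ V), θ ⟨v, hVM v hv⟩ o = o := fun v hv => hfix _ (hVA v hv)
  have hmapmul : ∀ a b : M, θ a * θ b = θ (a * b) := fun a b => (map_mul θ a b).symm
  obtain ⟨hs, hs', hss⟩ := V_mem C
  have hxM : x ∈ M := hxA.1
  have hxx : x * x * x = 1 := by rw [← C.L.x3, pow_succ, pow_two]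
  have hcommπ : ∀ c : M, z * (c : G) = (c : G) * z → π * θ c = θ c * π := fun c hc => by
    ext t
    induction t using QuotientGroup.induction_on with | _ m => ?_
    show ((ζ₀ (c * m) : M) : M ⧸ A) = ((c * ζ₀ m : M) : M ⧸ A)
    congr 1
    apply Subtype.ext
    show z * ((c : G) * (m : G)) * z = (c : G) * (z * (m : G) * z)
    rw [← mul_assoc z, hc]; group
  have hπ : π = 1 := by
    refine rigid_five hΩ o (θ ⟨s, hVM _ hs⟩) (θ ⟨x * s * x⁻¹, hVM _ hs'⟩) (θ ⟨x, hxM⟩) π
      (hθV _ hs) (hθV _ hs') (hfix _ hxA) ?_ ?_ ?_ ?_ ?_ ?_ ?_ ?_ ?_ ?_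
    · show ((ζ₀ 1 : M) : M ⧸ A) = ((1 : M) : M ⧸ A)
      congr 1
      apply Subtype.ext
      show z * 1 * z = 1
      rw [mul_one, C.S.zz]
    · rw [hmapmul, ← map_one θ]; exact congrArg θ (Subtype.ext (V_facts C hs).1)
    · exact kerV s hs C.s_ne
    · rw [hmapmul, hmapmul]; exact congrArg θ (Subtype.ext C.L.comm)
    · rw [hmapmul, ← map_one θ]; exact congrArg θ (Subtype.ext (V_facts C hs').1)
    · rw [hmapmul, hmapmul]; exact congrArg θ (Subtype.ext (show x * s = x * s * x⁻¹ * x by group))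
    · rw [hmapmul, hmapmul, hmapmul]
      refine congrArg θ (Subtype.ext ?_)
      show x * (x * s * x⁻¹) = s * (x * s * x⁻¹) * x
      rw [← C.L.cyc]; group
    · exact hcommπ _ (V_facts C hs).2.1.symm
    · exact hcommπ _ (V_facts C hs').2.1.symm
    · exact hcommπ _ C.L.xz.symm
  have hall : ∀ m : M, ((ζ₀ m : M) : M ⧸ A) = m := fun m =>
    Equiv.Perm.congr_fun hπ (m : M ⧸ A)
  let g' : M := ⟨g, mem_cent.2 hg⟩
  have hk : θ (g'⁻¹ * ζ₀ g') = 1 := by
    ext t
    induction t using QuotientGroup.induction_on with | _ m => ?_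
    show ((g'⁻¹ * ζ₀ g' * m : M) : M ⧸ A) = (m : M ⧸ A)
    have h1 := hall (g' * m)
    have h2 := hall m
    have e : ζ₀ (g' * m) = ζ₀ g' * ζ₀ m := Subtype.ext (z_conj_mul C _ _).symm
    rw [e] at h1
    have h3 : ((ζ₀ g' * m : M) : M ⧸ A) = ((g' * m : M) : M ⧸ A) := by
      refine Eq.trans ?_ h1
      exact (congrArg (θ (ζ₀ g')) h2).symm
    have h4 := congrArg (θ g'⁻¹) h3
    change ((g'⁻¹ * (ζ₀ g' * m) : M) : M ⧸ A) = ((g'⁻¹ * (g' * m) : M) : M ⧸ A) at h4
    rw [← mul_assoc, inv_mul_cancel_left] at h4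
    exact h4
  -- the kernel is `⟨f⟩`
  set c := g'⁻¹ * ζ₀ g' with hc
  have hcA := kerSub c hk
  have hcs : (c : G) * s = s * (c : G) := by
    by_contra hne
    have hV' := (Subgroup.mem_normalizer_iff.1 hcA.2 s).1 hs
    refine kerV ((c : G) * s * (c : G)⁻¹ * s⁻¹) (V.mul_mem hV' (V.inv_mem hs))
      (fun e => hne (conj_eq_iff_comm.1 (mul_inv_eq_one.1 e))) ?_
    have e : (⟨(c : G) * s * (c : G)⁻¹ * s⁻¹, hVM _ (V.mul_mem hV' (V.inv_mem hs))⟩ : M) =
        c * (⟨s, hVM s hs⟩ * c⁻¹ * ⟨s, hVM s hs⟩⁻¹) := Subtype.ext (by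
          show (c : G) * s * (c : G)⁻¹ * s⁻¹ = (c : G) * (s * (c : G)⁻¹ * s⁻¹)
          group)
    rw [e, map_mul, hk, one_mul]
    refine ker_conj _ _ ?_
    rw [map_inv, hk, inv_one]
  obtain ⟨i, v, hv, hcv⟩ := mem_cent_s_f C hf hcs (mem_cent.1 hcA.1)
  have hv1 : v = 1 := by
    by_contra hv1
    apply kerV v hv hv1
    have hfv : Commute (f ^ i) v := (show Commute f v from C.D.comm f hf.mem v hv).zpow_left i
    have hfi : (f ^ i) ^ 5 = 1 := by
      rw [← zpow_natCast, ← zpow_mul, mul_comm, zpow_mul, zpow_natCast, hf.five, one_zpow]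
    have e : (⟨v, hVM v hv⟩ : M) = c ^ 5 := Subtype.ext (by
      show v = (c : G) ^ 5
      rw [hcv, hfv.mul_pow, hfi, one_mul, pow_succ, pow_mul v 2 2, show v ^ 2 = 1 by rw [pow_two]; exact (V_facts C hv).1,
        one_pow, one_mul])
    rw [e, map_pow, hk, one_pow]
  refine ⟨i, ?_⟩
  have e : (c : G) = g⁻¹ * (z * g * z) := rfl
  rw [hv1, mul_one, e] at hcv
  rw [← hcv]; group

/-- An element of order five centralising `z` and `f`. -/
theorem exists_five_cent (hf : InvFive z K f) :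
    ∃ y : G, y * z = z * y ∧ y * f = f * y ∧ y ^ 5 = 1 ∧ y ≠ 1 := by
  haveI : Fact (Nat.Prime 5) := ⟨Nat.prime_five⟩
  obtain ⟨P, hfP, hPle⟩ := C.exists_sylow_five hf.five hf.ne
  obtain ⟨g, hgP, hgn⟩ : ∃ g ∈ (P : Subgroup G), g ∉ Subgroup.zpowers f := by
    by_contra h
    push Not at h
    have hd := Subgroup.card_dvd_of_le (show (P : Subgroup G) ≤ Subgroup.zpowers f from h)
    rw [C.sylow_five_card P, Nat.card_zpowers, orderOf_eq_prime hf.five hf.ne] at hd
    omega
  have hgf : g * f = f * g := mem_cent.1 (hPle hgP)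
  obtain ⟨i, hi⟩ := z_fix_mod C hf hgf
  obtain ⟨y, hy⟩ : ∃ y, y = g * f ^ (3 * i) := ⟨_, rfl⟩
  have h5i : f ^ (5 * i) = 1 := by
    rw [zpow_mul, show (5 : ℤ) = ((5 : ℕ) : ℤ) from rfl, zpow_natCast, hf.five, one_zpow]
  have hzy : z * y * z = y := by
    have e : z * f ^ (3 * i) * z = f ^ (-(3 * i)) := by
      have h := map_zpow (MulAut.conj z) f (3 * i)
      simp only [MulAut.conj_apply, C.S.zinv] at h
      rw [h, hf.inv, inv_zpow, zpow_neg]
    rw [hy, ← z_conj_mul C, hi, e, mul_assoc, ← zpow_add]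
    congr 1
    calc f ^ (i + -(3 * i)) = f ^ (5 * i) * f ^ (i + -(3 * i)) := by rw [h5i, one_mul]
      _ = f ^ (3 * i) := by rw [← zpow_add]; ring_nf
  have hyz : y * z = z * y := by
    calc y * z = (z * y * z) * z := by rw [hzy]
      _ = z * y * (z * z) := by group
      _ = z * y := by rw [C.S.zz, mul_one]
  have hyf : y * f = f * y := by
    rw [hy]
    exact (Commute.mul_left (show Commute g f from hgf) (Commute.zpow_self f _)).eq
  have hy1 : y ≠ 1 := fun h => hgn (by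
    rw [hy, mul_eq_one_iff_eq_inv] at h
    rw [h]; exact Subgroup.inv_mem _ (Subgroup.zpow_mem_zpowers f _))
  have hyP : y ∈ (P : Subgroup G) := hy ▸ mul_mem hgP (Subgroup.zpow_mem _ hfP _)
  have hd : orderOf y ∣ 5 ^ 2 := by
    rw [show (5 : ℕ) ^ 2 = 25 from rfl, ← C.sylow_five_card P]
    exact Subgroup.orderOf_dvd_natCard _ hyP
  obtain ⟨k, hk, hk'⟩ := (Nat.dvd_prime_pow Nat.prime_five).1 hd
  have hk0 : k ≠ 0 := fun h => hy1 (by
    rw [← orderOf_eq_one_iff, hk', h, pow_zero])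
  refine ⟨y ^ 5 ^ (k - 1), (Commute.pow_left hyz _).eq, (Commute.pow_left hyf _).eq, ?_, ?_⟩
  · rw [← pow_mul, ← pow_succ, show k - 1 + 1 = k by omega, ← hk', pow_orderOf_eq_one]
  · intro h
    have := orderOf_dvd_of_pow_eq_one h
    rw [hk', Nat.pow_dvd_pow_iff_le_right (by norm_num)] at this
    omega

/-- The centraliser of `z` and `f`. -/
def comp (z f : G) : Subgroup G :=
  Subgroup.centralizer ({z} : Set G) ⊓ Subgroup.centralizer ({f} : Set G)

theorem V_le_comp (hf : InvFive z K f) : (∀ v ∈ V, v ∈ comp z f) ∧ x ∈ comp z f :=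
  ⟨fun v hv => ⟨mem_cent.2 (V_facts C hv).2.1, mem_cent.2 (C.D.comm f hf.mem v hv).symm⟩,
    mem_cent.2 C.L.xz, mem_cent.2 (C.xK f hf.mem)⟩

/-- The map to `A5` is bijective on the centraliser of `z` and `f`. -/
theorem comp_bijective (hf : InvFive z K f) :
    Function.Bijective (φ.comp (Subgroup.inclusion (inf_le_left : comp z f ≤ Subgroup.centralizer ({z} : Set G)))) := by
  classical
  set χ := φ.comp (Subgroup.inclusion (inf_le_left : comp z f ≤ Subgroup.centralizer ({z} : Set G)))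
  have hinj : Function.Injective χ := by
    rw [injective_iff_map_eq_one]
    intro w hw
    have hwQ : (w : G) ∈ Q := (C.S.ker _).1 hw
    have hwf := mem_cent.1 w.2.2
    by_contra hne
    have hne' : (w : G) ≠ 1 := fun h => hne (Subtype.ext h)
    rcases C.S.sq _ hwQ with e | e
    · obtain ⟨g, hg⟩ := C.S.inQ_conj_z hwQ e hne'
      obtain ⟨r, hr⟩ := (C.F0_facts (isF0_of C hf)).2.1 _ hwf e hne'
      refine C.S.outer_not_conj C.L.hs (r⁻¹ * g) ?_
      rw [← conj_conj, hg, ← hr]; group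
    · apply zf_ne C hf
      rw [← e]
      exact (Commute.mul_left (show Commute (w : G) f from hwf) hwf).eq
  refine ⟨hinj, ?_⟩
  obtain ⟨hVc, hxc⟩ := V_le_comp C hf
  have hrange : (χ.range : Subgroup A5) = ⊤ := by
    apply Subgroup.eq_top_of_le_card
    rw [card_A5]
    have hcard : Nat.card χ.range = Nat.card (comp z f) :=
      (Nat.card_congr (Equiv.ofInjective χ hinj)).symm
    rw [hcard]
    have h3 : 3 ∣ Nat.card (comp z f) := by
      haveI : Fact (Nat.Prime 3) := ⟨Nat.prime_three⟩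
      rw [← orderOf_eq_prime C.L.x3 C.x_ne]
      exact Subgroup.orderOf_dvd_natCard _ hxc
    have h4 : 4 ∣ Nat.card (comp z f) := card_V_four C ▸ Subgroup.card_dvd_of_le hVc
    have h5 : 5 ∣ Nat.card (comp z f) := by
      haveI : Fact (Nat.Prime 5) := ⟨Nat.prime_five⟩
      obtain ⟨y, h1, h2, h3, h4⟩ := exists_five_cent C hf
      rw [← orderOf_eq_prime h3 h4]
      exact Subgroup.orderOf_dvd_natCard _ (show y ∈ comp z f from ⟨mem_cent.2 h1, mem_cent.2 h2⟩)
    have h60 : 60 ∣ Nat.card (comp z f) :=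
      (Nat.lcm_dvd (Nat.lcm_dvd h4 h3) h5 : Nat.lcm (Nat.lcm 4 3) 5 ∣ Nat.card (comp z f))
    exact Nat.le_of_dvd Nat.card_pos h60
  exact MonoidHom.range_eq_top.1 hrange

end Cfsg.Agent.HJUniq
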