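import Cfsg.Agent.Lib.HJUniq.Words

/-!
The model of the centraliser of the involution is faithful and covers the centraliser.
-/

set_option autoImplicit false
set_option linter.style.haveILetI false
set_option maxRecDepth 20000
set_option synthInstance.maxSize 4000
set_option synthInstance.maxHeartbeats 400000

namespace Cfsg.Agent.HJUniq

open Cfsg.Agent.HJ Cfsg.Agent.CosetCert

/-- The five conjugating elements and the stabiliser words reach all of `A5`. -/
theorem rho_surj : ∀ τ : A5, ∃ k : Fin 5, ∃ w ∈ stWords,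
    τ = wprod rho ((List.replicate (k : ℕ) [1, 2]).flatten ++ w) := by
  decide +kernel

theorem rho_stab : ∀ τ : A5, ap τ 4 = 4 → ∃ w ∈ stWords, τ = wprod rho w := by
  decide +kernel

theorem stWords_lt : (stWords.all fun w => w.all fun x => decide (x < 3)) = true := by decide +kernel

variable {G : Type*} [Group G] [Finite G] {z : G} {Q : Subgroup G}
  {φ : ↥(Subgroup.centralizer ({z} : Set G)) →* A5}
  {u a x s f : G} {K V : Subgroup G} {ι κ : A5 →* G}

namespace Cfg

variable (c : Cfg z Q φ u a x s K V f ι κ)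
include c

theorem iota_mem {R : Subgroup G} (hR : ∀ n, n < 3 → gens ι κ u n ∈ R) (τ : A5) : ι τ ∈ R := by
  obtain ⟨k, w, hw, rfl⟩ := rho_surj τ
  have hlt : (((List.replicate (k : ℕ) [1, 2]).flatten ++ w).all fun x => decide (x < 3)) = true := by
    rw [List.all_append, Bool.and_eq_true]
    exact ⟨List.all_eq_true.2 fun y hy => by
      simp only [List.mem_flatten, List.mem_replicate] at hy
      obtain ⟨l, ⟨-, rfl⟩, hy⟩ := hy
      simp only [List.mem_cons, List.not_mem_nil, or_false] at hy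
      rcases hy with rfl | rfl <;> rfl, List.all_eq_true.1 stWords_lt w hw⟩
  rw [← small_iota (κ := κ) (u := u) hlt, wprod]
  refine R.list_prod_mem fun g hg => ?_
  obtain ⟨y, hy, rfl⟩ := List.mem_map.1 hg
  exact hR y (of_decide_eq_true (List.all_eq_true.1 hlt y hy))

/-- A subgroup containing the first four generators contains the centraliser of `z`. -/
theorem cent_le {R : Subgroup G} (hR : ∀ n, n < 4 → gens ι κ u n ∈ R) :
    Subgroup.centralizer ({z} : Set G) ≤ R := by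
  classical
  have hι := c.iota_mem (R := R) fun n hn => hR n (by omega)
  have huR : u ∈ R := hR 3 (by norm_num)
  have hzR : z ∈ R := by
    have h := (c.hwords 0 (by norm_num)).symm
    rw [← c.κs, show κ s0 = gens ι κ u 6 from rfl, ← h]
    refine mem_of_word hR ?_
    decide
  obtain ⟨hN, hne, -⟩ := yy_facts c.C c.L
  have hy : ∀ i, yy ι u i ∈ R := fun i => R.mul_mem (R.mul_mem (hι _) huR) (R.inv_mem (hι _))
  have hQ : Q ≤ R := by
    set a0 := yy ι u 0
    set b0 := yy ι u 1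
    set c0 := yy ι u 2
    set d0 := yy ι u 3
    have S := c.C.S
    have ha := hN 0
    have hb := hN 1
    have hc := hN 2
    have hd := hN 3
    have nab := S.nc_of_pt_ne ha hb (hne 0 1 (by omega) (by omega) (by omega))
    have nac := S.nc_of_pt_ne ha hc (hne 0 2 (by omega) (by omega) (by omega))
    have nad := S.nc_of_pt_ne ha hd (hne 0 3 (by omega) (by omega) (by omega))
    have nbc := S.nc_of_pt_ne hb hc (hne 1 2 (by omega) (by omega) (by omega))
    have nbd := S.nc_of_pt_ne hb hd (hne 1 3 (by omega) (by omega) (by omega))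
    have ncd := S.nc_of_pt_ne hc hd (hne 2 3 (by omega) (by omega) (by omega))
    let A0 := Q ⊓ R
    let A1 := A0 ⊓ Subgroup.centralizer ({a0} : Set G)
    let A2 := A1 ⊓ Subgroup.centralizer ({b0} : Set G)
    let A3 := A2 ⊓ Subgroup.centralizer ({c0} : Set G)
    let A4 := A3 ⊓ Subgroup.centralizer ({d0} : Set G)
    have h1 : 2 * Nat.card A1 = Nat.card A0 :=
      S.card_cent_step A0 inf_le_left ha.1 ⟨b0, ⟨hb.1, hy 1⟩, Ne.symm nab⟩
    have h2 : 2 * Nat.card A2 = Nat.card A1 :=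
      S.card_cent_step A1 (inf_le_left.trans inf_le_left) hb.1
        ⟨a0, ⟨⟨ha.1, hy 0⟩, mem_cent.2 rfl⟩, nab⟩
    have habd : a0 * b0 * d0 ∈ A0 := ⟨Q.mul_mem (Q.mul_mem ha.1 hb.1) hd.1, R.mul_mem (R.mul_mem (hy 0) (hy 1)) (hy 3)⟩
    have habc : a0 * b0 * c0 ∈ A0 := ⟨Q.mul_mem (Q.mul_mem ha.1 hb.1) hc.1, R.mul_mem (R.mul_mem (hy 0) (hy 1)) (hy 2)⟩
    have xa : ∀ w, Nci z Q w → a0 * w ≠ w * a0 → a0 * b0 * w * a0 = a0 * (a0 * b0 * w) := fun w hw hn =>
      S.comm_of_nc (Q.mul_mem ha.1 hb.1) hw.1 ha.1 (Setup.nc_of_comm_nc rfl (Ne.symm nab)) (Ne.symm hn)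
    have xb : ∀ w, Nci z Q w → b0 * w ≠ w * b0 → a0 * b0 * w * b0 = b0 * (a0 * b0 * w) := fun w hw hn =>
      S.comm_of_nc (Q.mul_mem ha.1 hb.1) hw.1 hb.1 (Setup.nc_of_nc_comm nab rfl) (Ne.symm hn)
    have h3 : 2 * Nat.card A3 = Nat.card A2 := by
      refine S.card_cent_step A2 (inf_le_left.trans (inf_le_left.trans inf_le_left)) hc.1
        ⟨a0 * b0 * d0, ⟨⟨habd, mem_cent.2 (xa d0 hd nad)⟩, mem_cent.2 (xb d0 hd nbd)⟩, ?_⟩
      exact Setup.nc_of_comm_nc (S.comm_of_nc ha.1 hb.1 hc.1 nac nbc) (Ne.symm ncd)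
    have h4 : 2 * Nat.card A4 = Nat.card A3 := by
      refine S.card_cent_step A3 (inf_le_left.trans (inf_le_left.trans (inf_le_left.trans inf_le_left))) hd.1
        ⟨a0 * b0 * c0, ⟨⟨⟨habc, mem_cent.2 (xa c0 hc nac)⟩, mem_cent.2 (xb c0 hc nbc)⟩,
          mem_cent.2 (Setup.comm_mul (S.comm_of_nc ha.1 hb.1 hc.1 nac nbc) rfl)⟩, ?_⟩
      exact Setup.nc_of_comm_nc (S.comm_of_nc ha.1 hb.1 hd.1 nad nbd) ncd
    have hz4 : z ∈ A4 := ⟨⟨⟨⟨⟨S.zQ, hzR⟩, mem_cent.2 (S.Q_comm_z ha.1).symm⟩,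
      mem_cent.2 (S.Q_comm_z hb.1).symm⟩, mem_cent.2 (S.Q_comm_z hc.1).symm⟩,
      mem_cent.2 (S.Q_comm_z hd.1).symm⟩
    have h5 : 2 ≤ Nat.card A4 := Finite.one_lt_card_iff_nontrivial.2
      ⟨⟨z, hz4⟩, 1, fun e => S.zne (congrArg Subtype.val e)⟩
    have hA : A0 = Q := Subgroup.eq_of_le_of_card_ge inf_le_left (by rw [S.card]; omega)
    intro q hq
    rw [← hA] at hq
    exact hq.2
  intro h hh
  obtain ⟨τ, hτ, -⟩ := c.L.cover h (mem_cent.1 hh)
  rw [show h = ι τ * ((ι τ)⁻¹ * h) by group]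
  exact R.mul_mem (hι τ) (hQ hτ)

omit [Finite G] in
theorem gens_cz (n : ℕ) (hn : n < 4) : gens ι κ u n * z = z * gens ι κ u n := by
  interval_cases n
  · exact c.L.cz _
  · exact c.L.cz _
  · exact c.L.cz _
  · exact c.C.S.Q_comm_z c.C.L.hu.1

/-- The homomorphism from the model is injective. -/
theorem exists_model : ∃ ψ : MH →* G, Function.Injective ψ ∧
    ∀ x, x < 4 → ∀ hx : permOf codesA x ∈ MH, ψ ⟨permOf codesA x, hx⟩ = gens ι κ u x := by
  obtain ⟨ψ, hψ⟩ := exists_homH c.relH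
  haveI : Finite MH := Nat.finite_of_card_ne_zero (by rw [card_MH]; norm_num)
  refine ⟨ψ, ?_, hψ⟩
  have hle : Subgroup.centralizer ({z} : Set G) ≤ ψ.range :=
    c.cent_le fun n hn => ⟨_, hψ n hn (Subgroup.subset_closure ⟨n, hn, rfl⟩)⟩
  have h1 := Nat.le_of_dvd Nat.card_pos (Subgroup.card_dvd_of_le hle)
  rw [c.C.S.card_H] at h1
  have h2 : Nat.card ψ.range ≤ Nat.card MH :=
    Nat.card_le_card_of_surjective _ ψ.rangeRestrict_surjective
  rw [card_MH] at h2
  have hb := (Nat.bijective_iff_surjective_and_card ψ.rangeRestrict).2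
    ⟨ψ.rangeRestrict_surjective, by rw [card_MH]; omega⟩
  exact fun p q e => hb.1 (Subtype.ext e)

/-- Equalities of words in the centraliser are those of the model. -/
theorem word_iff {v w : List ℕ} (hv : okA v = true) (hw : okA w = true) :
    wprod (gens ι κ u) v = wprod (gens ι κ u) w ↔ sameWord codesA (expand v) (expand w) = true := by
  obtain ⟨ψ, hinj, hψ⟩ := c.exists_model
  rw [← wprod_expand c.hwords hv, ← wprod_expand c.hwords hw, ← hom_wprod hψ (expand_lt hv),
    ← hom_wprod hψ (expand_lt hw), hinj.eq_iff, Subtype.mk.injEq]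
  exact ⟨sameWord_of_eq validA, eq_of_sameWord validA⟩

theorem wordA {v w : List ℕ} (h : (okA v && okA w && sameWord codesA (expand v) (expand w)) = true) :
    wprod (gens ι κ u) v = wprod (gens ι κ u) w := by
  simp only [Bool.and_eq_true] at h
  exact (c.word_iff h.1.1 h.1.2).2 h.2

end Cfg

end Cfsg.Agent.HJUniq
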