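import Cfsg.Agent.Lib.HJUniq.Relators

/-!
A group of Hall–Janko type is isomorphic to the model on 100 points.
-/

set_option autoImplicit false
set_option linter.style.haveILetI false
set_option maxRecDepth 20000
set_option synthInstance.maxSize 4000
set_option synthInstance.maxHeartbeats 400000

namespace Cfsg.Agent.HJUniq

open Cfsg.Agent.HJ Cfsg.Agent.CosetCert

theorem tA_facts : tA ^ 5 = 1 ∧ tA ≠ 1 ∧ s0 * tA * s0 = tA⁻¹ := by decide +kernel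

theorem five_cases : ∀ t : A5, t ^ 5 = 1 → t ≠ 1 → s0 * t * s0 = t⁻¹ →
    (∃ k : Fin 5, tA = t ^ (k : ℕ)) ∨ (∃ k : Fin 5, tB = t ^ (k : ℕ)) := by decide +kernel

theorem rhoK_tA : wprod rhoK [6, 4, 3, 4] = tA ∧ wprod rhoK [4, 3, 4, 6] = tA⁻¹ := by decide +kernel

theorem rhoK_tB : wprod rhoK [4, 5, 4, 6] = tB ∧ wprod rhoK [6, 4, 5, 4] = tB⁻¹ := by decide +kernel

variable {G : Type*} [Group G] [Finite G] {z : G} {Q : Subgroup G}
  {φ : ↥(Subgroup.centralizer ({z} : Set G)) →* A5}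
  {u a x s f : G} {K V : Subgroup G} {ι κ : A5 →* G}

/-- A labelling of the component. -/
theorem exists_kappa (C : Ctx z Q φ u a x s K V) :
    ∃ κ : A5 →* G, Function.Injective κ ∧ (∀ τ, κ τ ∈ K) ∧ (∀ k ∈ K, ∃ τ, κ τ = k) ∧
      κ s0 = z ∧ κ x0 = a := by
  obtain ⟨ε⟩ := C.iso
  have hp2 : ε ⟨z, C.D.zK⟩ * ε ⟨z, C.D.zK⟩ = 1 := by
    rw [← map_mul, ← map_one ε]; exact congrArg ε (Subtype.ext C.S.zz)
  have hp1 : ε ⟨z, C.D.zK⟩ ≠ 1 := fun h =>
    C.S.zne (congrArg Subtype.val (ε.injective (h.trans (map_one ε).symm)))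
  have hr3 : ε ⟨a, C.D.aK⟩ ^ 3 = 1 := by
    rw [← map_pow, ← map_one ε]; exact congrArg ε (Subtype.ext C.L.a3)
  have ha1 : a ≠ 1 := fun h => C.L.hu.2.2.2 (by rw [← C.L.az, h]; group)
  have hr1 : ε ⟨a, C.D.aK⟩ ≠ 1 := fun h =>
    ha1 (congrArg Subtype.val (ε.injective (h.trans (map_one ε).symm)))
  have hcomm : ε ⟨z, C.D.zK⟩ * (ε ⟨a, C.D.aK⟩ * ε ⟨z, C.D.zK⟩ * (ε ⟨a, C.D.aK⟩)⁻¹) =
      ε ⟨a, C.D.aK⟩ * ε ⟨z, C.D.zK⟩ * (ε ⟨a, C.D.aK⟩)⁻¹ * ε ⟨z, C.D.zK⟩ := by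
    rw [← map_inv, ← map_mul, ← map_mul, ← map_mul, ← map_mul]
    refine congrArg ε (Subtype.ext ?_)
    show z * (a * z * a⁻¹) = a * z * a⁻¹ * z
    rw [C.L.az]
    exact (C.S.Q_comm_z C.L.hu.1).symm
  obtain ⟨i, hip, hir⟩ := common_fix _ hp2 hp1 _ hr3 hr1 hcomm
  obtain ⟨σ, -, hσp, hσr⟩ := label_exists i _ hip hp2 hp1 _ hir hr3 hr1
  refine ⟨(K.subtype.comp ε.symm.toMonoidHom).comp (conj5 σ⁻¹), fun p q e => ?_, fun τ => Subtype.mem _,
    fun k hk => ⟨conj5 σ (ε ⟨k, hk⟩), ?_⟩, ?_, ?_⟩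
  · have e2 := ε.symm.injective (Subtype.ext e)
    rw [← conj5_inv σ p, ← conj5_inv σ q]
    exact congrArg (conj5 σ) e2
  · show ((ε.symm (conj5 σ⁻¹ (conj5 σ (ε ⟨k, hk⟩))) : K) : G) = k
    rw [show conj5 σ⁻¹ (conj5 σ (ε ⟨k, hk⟩)) = ε ⟨k, hk⟩ from Subtype.ext (by simp [conj5, mul_assoc]),
      ε.symm_apply_apply]
  · show ((ε.symm (conj5 σ⁻¹ s0) : K) : G) = z
    rw [show conj5 σ⁻¹ s0 = ε ⟨z, C.D.zK⟩ from Subtype.ext (by
      show σ⁻¹ * (s0 : Equiv.Perm (Fin 5)) * σ⁻¹⁻¹ = _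
      rw [inv_inv, mul_assoc, ← hσp, inv_mul_cancel_left]), ε.symm_apply_apply]
  · show ((ε.symm (conj5 σ⁻¹ x0) : K) : G) = a
    rw [show conj5 σ⁻¹ x0 = ε ⟨a, C.D.aK⟩ from Subtype.ext (by
      show σ⁻¹ * (x0 : Equiv.Perm (Fin 5)) * σ⁻¹⁻¹ = _
      rw [inv_inv, mul_assoc, ← hσr, inv_mul_cancel_left]), ε.symm_apply_apply]

namespace Cfg

variable (c : Cfg z Q φ u a x s K V f ι κ)
include c

omit [Finite G] in
theorem comm_pair {g : G} {τ : A5} (hτ : τ * τ = 1) (hg : g * κ τ = κ τ * g) :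
    g * (κ τ * (g⁻¹ * κ τ)) = 1 := by
  have h : κ τ * κ τ = 1 := by rw [← map_mul, hτ, map_one]
  rw [← mul_assoc (κ τ), (Commute.inv_left (show Commute g (κ τ) from hg)).eq.symm,
    ← mul_assoc g, ← mul_assoc g, mul_inv_cancel, one_mul, h]

omit [Finite G] in
theorem comm_s : ∀ τ, s * κ τ = κ τ * s ∧ x * κ τ = κ τ * x ∧ ι s1 * κ τ = κ τ * ι s1 := fun τ => by
  have hv : ι s1 = x * s * x⁻¹ := by rw [s1, map_mul, map_mul, map_inv, c.L.ix, c.L.is]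
  exact ⟨(mem_cent.1 (c.C.D.hK (c.κK τ))).symm, c.C.xK _ (c.κK τ),
    hv ▸ (c.C.D.comm _ (c.κK τ) _ c.C.xs').symm⟩

theorem mixed_rel : ∀ w ∈ mixed, wprod (gens ι κ u) w = 1 := by
  have hs : ι s0 * ι s0 = 1 := by rw [← map_mul, show s0 * s0 = 1 by decide +kernel, map_one]
  have hs1 : ι s1 * ι s1 = 1 := by rw [← map_mul, show s1 * s1 = 1 by decide +kernel, map_one]
  have hW : W0 * W0 = 1 := by decide +kernel
  have hE : W0 * x0 * (W0 * x0) = 1 := by decide +kernel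
  have hc := c.comm_s
  intro w hw
  simp only [mixed, List.mem_cons, List.not_mem_nil, or_false] at hw
  rcases hw with rfl | rfl | rfl | rfl | rfl | rfl | rfl
  · rw [show [4, 5, 8, 9, 5, 4, 9, 7, 8] = [4, 5] ++ ([8, 9] ++ ([5, 4] ++ [9, 7, 8])) from rfl,
      wprod_append, wprod_append, wprod_append, c.wordB (w := [4, 5]) (by decide),
      c.wordB (w := [5, 4]) (by decide), show wprod rhoK [4, 5] = x0 by decide +kernel,
      show wprod rhoK [5, 4] = x0⁻¹ by decide +kernel, map_inv, c.κx, ← mul_assoc, ← mul_assoc,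
      c.conj_pair, ← wprod_append]
    exact (c.wordA (w := []) (by decide +kernel)).trans (by simp [wprod])
  all_goals (try rw [show [1, 2, 0, 1, 4, 1, 0, 2, 1, 4] = [1, 2, 0, 1] ++ ([4] ++ ([1, 0, 2, 1] ++ [4])) from rfl])
  all_goals (try rw [show [1, 2, 0, 1, 5, 1, 0, 2, 1, 5] = [1, 2, 0, 1] ++ ([5] ++ ([1, 0, 2, 1] ++ [5])) from rfl])
  all_goals (try simp only [wprod_append, small_iota (ι := ι) (κ := κ) (u := u) (w := [1, 2, 0, 1]) (by decide),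
    small_iota (ι := ι) (κ := κ) (u := u) (w := [1, 0, 2, 1]) (by decide),
    show wprod rho [1, 2, 0, 1] = x0 by decide +kernel, show wprod rho [1, 0, 2, 1] = x0⁻¹ by decide +kernel,
    map_inv, c.L.ix])
  all_goals simp only [wprod_cons, wprod_nil, mul_one]
  · show ι s0 * (κ W0 * (ι s0 * κ W0)) = 1
    conv_lhs => enter [2, 2, 1]; rw [← inv_of_sq hs]
    exact c.comm_pair hW (c.L.is.symm ▸ (hc W0).1)
  · show ι s0 * (κ (W0 * x0) * (ι s0 * κ (W0 * x0))) = 1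
    conv_lhs => enter [2, 2, 1]; rw [← inv_of_sq hs]
    exact c.comm_pair hE (c.L.is.symm ▸ (hc _).1)
  · show ι s1 * (κ W0 * (ι s1 * κ W0)) = 1
    conv_lhs => enter [2, 2, 1]; rw [← inv_of_sq hs1]
    exact c.comm_pair hW (hc W0).2.2
  · show ι s1 * (κ (W0 * x0) * (ι s1 * κ (W0 * x0))) = 1
    conv_lhs => enter [2, 2, 1]; rw [← inv_of_sq hs1]
    exact c.comm_pair hE (hc _).2.2
  · show x * (κ W0 * (x⁻¹ * κ W0)) = 1
    exact c.comm_pair hW (hc W0).2.1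
  · show x * (κ (W0 * x0) * (x⁻¹ * κ (W0 * x0))) = 1
    exact c.comm_pair hE (hc _).2.1

/-- The last relator. -/
theorem last_rel {t : A5} {v v' : List ℕ} (hv : okB v = true) (hv' : okB v' = true)
    (e : wprod rhoK v = t) (e' : wprod rhoK v' = t⁻¹) {k : ℕ} (hk : κ t = f ^ k) :
    wprod (gens ι κ u) ([1, 2] ++ (v ++ ([2, 1] ++ v'))) = 1 := by
  rw [wprod_append, wprod_append, wprod_append, small_iota (w := [1, 2]) (by decide),
    small_iota (w := [2, 1]) (by decide), c.wordB hv, c.wordB hv', e, e',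
    show wprod rho [1, 2] = q0 by decide +kernel, show wprod rho [2, 1] = q0⁻¹ by decide +kernel,
    map_inv, map_inv, hk]
  have h : Commute (ι q0) (f ^ k) := Commute.pow_right (c.L.cf q0) k
  calc ι q0 * (f ^ k * ((ι q0)⁻¹ * (f ^ k)⁻¹)) = ι q0 * f ^ k * (ι q0)⁻¹ * (f ^ k)⁻¹ := by group
    _ = f ^ k * ι q0 * (ι q0)⁻¹ * (f ^ k)⁻¹ := by rw [h.eq]
    _ = 1 := by group

theorem base_rel {base : List (List ℕ)} {last : List ℕ}
    (hc : (base.all fun w => classify last w) = true) (hl : wprod (gens ι κ u) last = 1) :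
    ∀ w ∈ base, wprod (gens ι κ u) w = 1 := by
  intro w hw
  have h := List.all_eq_true.1 hc w hw
  simp only [classify, Bool.or_eq_true, Bool.and_eq_true, beq_iff_eq, decide_eq_true_eq] at h
  rcases h with ((⟨h1, h2⟩ | ⟨h1, h2⟩) | h) | h
  · exact ((c.word_iff h1 (w := []) rfl).2 h2).trans (by simp [wprod])
  · rw [c.wordB h1, h2, map_one]
  · exact c.mixed_rel w (by simpa using h)
  · exact h ▸ hl

/-- A configuration gives an isomorphism with the model. -/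
theorem nonempty_iso (hf : ∃ t : A5, κ t = f ∧ t ^ 5 = 1 ∧ t ≠ 1 ∧ s0 * t * s0 = t⁻¹) :
    Nonempty (J2.G100 ≃* G) := by
  obtain ⟨t, ht, h5, h1, hinv⟩ := hf
  have h0 : gens ι κ u 0 ≠ 1 := by
    show ι s0 ≠ 1
    rw [c.L.is]
    exact c.C.s_ne
  rcases five_cases t h5 h1 hinv with ⟨k, hk⟩ | ⟨k, hk⟩
  · exact nonempty_isoA c.C.S.card_G c.relH c.hwords h0 (c.base_rel classifyA
      (c.last_rel (v := [6, 4, 3, 4]) (v' := [4, 3, 4, 6]) (by decide) (by decide) rhoK_tA.1 rhoK_tA.2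
        (k := k) (by rw [← ht, ← map_pow, hk])))
  · exact nonempty_isoB c.C.S.card_G c.relH c.hwords h0 (c.base_rel classifyB
      (c.last_rel (v := [4, 5, 4, 6]) (v' := [6, 4, 5, 4]) (by decide) (by decide) rhoK_tB.1 rhoK_tB.2
        (k := k) (by rw [← ht, ← map_pow, hk])))

end Cfg

/-- A group of Hall–Janko type is isomorphic to the group of the permutation model. -/
theorem setup_iso_G100 (S : Setup z Q φ) : Nonempty (J2.G100 ≃* G) := by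
  obtain ⟨u, a, x, s, K, V, C⟩ := S.exists_ctx
  obtain ⟨κ₀, hinj₀, hK₀, -, hs₀, -⟩ := exists_kappa C
  obtain ⟨g5, g1, ginv⟩ := tA_facts
  have hI : InvFive z K (κ₀ tA) :=
    ⟨hK₀ _, by rw [← map_pow, g5, map_one], fun h => g1 (hinj₀ (h.trans (map_one κ₀).symm)),
      by rw [← hs₀, ← map_mul, ← map_mul, ginv, map_inv]⟩
  obtain ⟨u', a', ι, C', L', hprod⟩ := exists_oriented C hI
  obtain ⟨κ, hinj, hK, hsurj, hs, hx⟩ := exists_kappa C'
  have c : Cfg z Q φ u' a' x s K V (κ₀ tA) ι κ := ⟨C', L', hprod, hK, hs, hx⟩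
  obtain ⟨t, ht⟩ := hsurj _ hI.mem
  refine c.nonempty_iso ⟨t, ht, hinj ?_, fun h => hI.ne (by rw [← ht, h, map_one]), hinj ?_⟩
  · rw [map_pow, ht, hI.five, map_one]
  · rw [map_mul, map_mul, map_inv, ht, hs, hI.inv]

/-- A group of Hall–Janko type is the Hall–Janko group. -/
theorem setup_iso (S : Setup z Q φ) : Nonempty (G ≃* Cfsg.Spor.J2) := by
  obtain ⟨e⟩ := setup_iso_G100 S
  exact ⟨e.symm.trans J2.j2Equiv.symm⟩

end Cfsg.Agent.HJUniq
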