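import Cfsg.Agent.Lib.Compute.CosetCardLe
import Cfsg.Agent.Lib.Compute.CosetPres

/-!
Maps out of a model from coset certificates: when two systems of involutions satisfy the relators of
certified tables, the pairs of corresponding generators generate few elements.
-/

set_option autoImplicit false

namespace Cfsg.Agent.HJUniq

open Cfsg.Agent.CosetCert

variable {G M : Type*} [Group G] [Group M]

/-- Pairs of corresponding generators. -/
def pairGen (f : ℕ → G) (g : ℕ → M) (x : ℕ) : G × M := (f x, g x)

theorem wprod_map {A B : Type*} [Group A] [Group B] (φ : A →* B) (f : ℕ → A) (w : List ℕ) :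
    wprod (fun x => φ (f x)) w = φ (wprod f w) := by
  induction w with
  | nil => simp [wprod]
  | cons x w ih =>
    rw [wprod_cons, wprod_cons, map_mul, ih]

theorem wprod_pair (f : ℕ → G) (g : ℕ → M) (w : List ℕ) :
    wprod (pairGen f g) w = (wprod f w, wprod g w) := by
  induction w with
  | nil => rfl
  | cons x w ih => rw [wprod_cons, wprod_cons, wprod_cons, ih]; rfl

theorem pair_invol {f : ℕ → G} {g : ℕ → M} (hf : ∀ x, f x * f x = 1) (hg : ∀ x, g x * g x = 1)
    (x : ℕ) : pairGen f g x * pairGen f g x = 1 := Prod.ext (hf x) (hg x)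

theorem pair_base {f : ℕ → G} {g : ℕ → M} {w : List ℕ} (hf : wprod f w = 1) (hg : wprod g w = 1) :
    wprod (pairGen f g) w = 1 := by rw [wprod_pair, hf, hg]; rfl

/-- The pairs generate the graph of a homomorphism when they are no more numerous than the model. -/
theorem exists_hom {k m : ℕ} {f : ℕ → G} {g : ℕ → M} {T : Subgroup M}
    (hT : Subgroup.closure (g '' {x | x < k}) = T) (hm : Nat.card T = m)
    (hc : CardLe (Subgroup.closure (pairGen f g '' {x | x < k})) m) :
    ∃ φ : T →* G, ∀ x, x < k → ∀ hx : g x ∈ T, φ ⟨g x, hx⟩ = f x := by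
  set K := Subgroup.closure (pairGen f g '' {x | x < k}) with hK
  haveI := hc.1
  have hmap : K.map (MonoidHom.snd G M) = T := by
    rw [hK, MonoidHom.map_closure, ← Set.image_comp, ← hT]
    rfl
  let π : K →* T := ((MonoidHom.snd G M).comp K.subtype).codRestrict T fun p => by
    rw [← hmap]; exact ⟨_, p.2, rfl⟩
  have hπs : Function.Surjective π := by
    rintro ⟨t, ht⟩
    rw [← hmap] at ht
    obtain ⟨p, hp, rfl⟩ := ht
    exact ⟨⟨p, hp⟩, rfl⟩
  have hπ : Function.Bijective π := by
    refine (Nat.bijective_iff_surjective_and_card π).2 ⟨hπs, ?_⟩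
    have := Nat.card_le_card_of_surjective π hπs
    have h2 := hc.2
    omega
  refine ⟨((MonoidHom.fst G M).comp K.subtype).comp (MulEquiv.ofBijective π hπ).symm.toMonoidHom,
    fun x hx hgx => ?_⟩
  have hp : pairGen f g x ∈ K := Subgroup.subset_closure ⟨x, hx, rfl⟩
  have e : (MulEquiv.ofBijective π hπ).symm ⟨g x, hgx⟩ = ⟨pairGen f g x, hp⟩ := by
    rw [MulEquiv.symm_apply_eq]
    exact Subtype.ext rfl
  show (((MulEquiv.ofBijective π hπ).symm ⟨g x, hgx⟩ : K) : G × M).1 = f x
  rw [e]; rfl

end Cfsg.Agent.HJUniq
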