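import Cfsg.Agent.Lib.HJUniq.Data
import Cfsg.Agent.Lib.HJUniq.Chains
import Cfsg.Agent.Lib.HJUniq.Pairs
import Cfsg.Agent.Lib.J2.Group
import Cfsg.Agent.Lib.Compute.CosetData.HJA
import Cfsg.Agent.Lib.Compute.CosetData.HJH
import Cfsg.Agent.Lib.Compute.CosetData.HJGA
import Cfsg.Agent.Lib.Compute.CosetData.HJGB

/-!
The two configurations of generators inside the permutation model of the Hall–Janko group.
-/

set_option autoImplicit false
set_option maxRecDepth 20000

namespace Cfsg.Agent.HJUniq

open Cfsg.Agent.CosetCert (wprod)
open Cfsg.Agent.PermCert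
open Cfsg.Agent.CosetData

/-- The permutation with number `x` in a list of codes. -/
def permOf (C : List Elt) (x : ℕ) : Equiv.Perm (Fin 100) := toPerm 7 100 (C.getD x (one 7 100))

/-- The code of a word. -/
def wcode (C : List Elt) (w : List ℕ) : Elt :=
  w.foldr (fun x acc => mul 7 100 (C.getD x (one 7 100)) acc) (one 7 100)

/-- All codes are permutations. -/
def validCodes (C : List Elt) : Bool := C.all fun e => validElt 7 100 e

theorem valid_getD {C : List Elt} (h : validCodes C = true) (x : ℕ) :
    validElt 7 100 (C.getD x (one 7 100)) = true := by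
  by_cases hx : x < C.length
  · rw [List.getD_eq_getElem _ _ hx]
    exact List.all_eq_true.1 h _ (List.getElem_mem hx)
  · rw [List.getD_eq_default _ _ (not_lt.1 hx)]
    decide +kernel

theorem rep_wcode {C : List Elt} (h : validCodes C = true) (w : List ℕ) :
    Rep 7 (wcode C w) (wprod (permOf C) w) := by
  induction w with
  | nil => exact rep_one (by norm_num)
  | cons x w ih =>
    rw [Cfsg.Agent.CosetCert.wprod_cons]
    exact rep_mul (rep_toPerm (valid_getD h x)) ih

/-- Two words with the same permutation. -/
def sameWord (C : List Elt) (u v : List ℕ) : Bool :=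
  let a := (wcode C u).1; let b := (wcode C v).1
  allBelow (fun i => Nat.beq (get 7 a i) (get 7 b i)) 100

theorem eq_of_sameWord {C : List Elt} (h : validCodes C = true) {u v : List ℕ}
    (e : sameWord C u v = true) : wprod (permOf C) u = wprod (permOf C) v := by
  ext i
  rw [← (rep_wcode h u i).1, ← (rep_wcode h v i).1]
  unfold sameWord at e
  exact Nat.eq_of_beq_eq_true (allBelow_spec _ _ e i i.2)

theorem sameWord_of_eq {C : List Elt} (h : validCodes C = true) {u v : List ℕ}
    (e : wprod (permOf C) u = wprod (permOf C) v) : sameWord C u v = true := by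
  have key : ∀ m, m ≤ 100 →
      allBelow (fun i => Nat.beq (get 7 (wcode C u).1 i) (get 7 (wcode C v).1 i)) m = true := by
    intro m
    induction m with
    | zero => intro _; rfl
    | succ m ih =>
      intro hm
      have h1 : Nat.beq (get 7 (wcode C u).1 m) (get 7 (wcode C v).1 m) = true := by
        rw [Nat.beq_eq, (rep_wcode h u ⟨m, hm⟩).1, (rep_wcode h v ⟨m, hm⟩).1, e]
      show (allBelow (fun i => Nat.beq (get 7 (wcode C u).1 i) (get 7 (wcode C v).1 i)) m &&
        Nat.beq (get 7 (wcode C u).1 m) (get 7 (wcode C v).1 m)) = true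
      rw [h1, ih (by omega)]; rfl
  exact key 100 le_rfl

theorem validA : validCodes codesA = true := by decide +kernel
theorem validB : validCodes codesB = true := by decide +kernel

theorem invol_of_check {C : List Elt} (h : validCodes C = true) {k : ℕ} (hk : C.length = k)
    (hc : ((List.range k).all fun x => sameWord C [x, x] []) = true) (x : ℕ) :
    permOf C x * permOf C x = 1 := by
  by_cases hx : x < k
  · have := eq_of_sameWord h (List.all_eq_true.1 hc x (List.mem_range.2 hx))
    simpa [wprod] using this
  · rw [permOf, List.getD_eq_default _ _ (by omega)]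
    have e : toPerm 7 100 (one 7 100) = 1 :=
      rep_unique (rep_toPerm (by decide +kernel)) (rep_one (by norm_num))
    rw [e, one_mul]

theorem involA : ∀ x, permOf codesA x * permOf codesA x = 1 :=
  invol_of_check validA (k := 10) rfl (by decide +kernel)

theorem involB : ∀ x, permOf codesB x * permOf codesB x = 1 :=
  invol_of_check validB (k := 10) rfl (by decide +kernel)

theorem words_of_check {C : List Elt} (h : validCodes C = true) {B : List (List ℕ)}
    (hc : (B.all fun w => sameWord C w []) = true) : ∀ w ∈ B, wprod (permOf C) w = 1 := fun w hw =>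
  eq_of_sameWord h (List.all_eq_true.1 hc w hw)

theorem baseA5 : ∀ w ∈ HJA.base, wprod (permOf codesA) w = 1 :=
  words_of_check validA (by decide +kernel)

theorem baseH : ∀ w ∈ HJH.base, wprod (permOf codesA) w = 1 :=
  words_of_check validA (by decide +kernel)

theorem baseGA : ∀ w ∈ HJGA.base, wprod (permOf codesA) w = 1 :=
  words_of_check validA (by decide +kernel)

theorem baseGB : ∀ w ∈ HJGB.base, wprod (permOf codesB) w = 1 :=
  words_of_check validB (by decide +kernel)

/-- The model of the centraliser of an involution. -/
def MH : Subgroup (Equiv.Perm (Fin 100)) := Subgroup.closure (permOf codesA '' {x | x < 4})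

theorem image_eq (C : List Elt) (k : ℕ) (gs : List Elt) (hg : gs = C.take k) (hk : k ≤ C.length) :
    permOf C '' {x | x < k} = {σ | σ ∈ gs.map (toPerm 7 100)} := by
  subst hg
  ext σ
  simp only [Set.mem_image, List.mem_map]
  constructor
  · rintro ⟨x, hx, rfl⟩
    refine ⟨_, List.mem_iff_getElem.2 ⟨x, ?_, rfl⟩, ?_⟩
    · rw [List.length_take]; exact lt_min hx (lt_of_lt_of_le hx hk)
    · rw [List.getElem_take, permOf, List.getD_eq_getElem]
  · rintro ⟨e, he, rfl⟩
    obtain ⟨x, hx, rfl⟩ := List.mem_iff_getElem.1 he
    rw [List.length_take] at hx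
    refine ⟨x, lt_of_lt_of_le hx (min_le_left _ _), ?_⟩
    rw [List.getElem_take, permOf, List.getD_eq_getElem]

theorem mh_cert : checkCert 7 100 mhGens mhDerived mhLevels = true := by decide +kernel

theorem card_MH : Nat.card MH = 1920 := by
  rw [MH, image_eq codesA 4 mhGens rfl (by decide)]
  show Nat.card (genGroup 7 100 mhGens) = 1920
  rw [cert_card mh_cert]
  decide +kernel

theorem cA_cert : checkCert 7 100 cAGens cADerived cALevels = true := by decide +kernel

theorem cB_cert : checkCert 7 100 cBGens cBDerived cBLevels = true := by decide +kernel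

theorem gen_top_of {C gens : List Elt} {derived : List (Elt × List ℕ)} {levels : List CLevel}
    (hv : validCodes C = true) (hl : C.length = 10) (hgs : gens = C.take 6)
    (hcert : checkCert 7 100 gens derived levels = true) (ho : certOrder levels = 604800)
    (hmem : (C.all fun e => sift 7 100 J2.j2Levels e.1) = true) :
    Subgroup.closure (permOf C '' {x | x < 10}) = J2.G100 := by
  refine Subgroup.eq_of_le_of_card_ge ?_ ?_
  · rw [Subgroup.closure_le]
    rintro _ ⟨x, hx, rfl⟩
    have hx' : x < C.length := by rw [hl]; exact hx
    rw [permOf, List.getD_eq_getElem _ _ hx']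
    exact cert_mem J2.cert_ok (List.all_eq_true.1 hv _ (List.getElem_mem hx'))
      (List.all_eq_true.1 hmem _ (List.getElem_mem hx'))
  · rw [J2.card_G100]
    have hle : Subgroup.closure (permOf C '' {x | x < 6}) ≤ Subgroup.closure (permOf C '' {x | x < 10}) :=
      Subgroup.closure_mono (Set.image_mono fun x (hx : x < 6) => show x < 10 by omega)
    refine le_of_eq_of_le ?_ (Subgroup.card_le_of_le hle)
    rw [image_eq C 6 gens hgs (by omega)]
    show 604800 = Nat.card (genGroup 7 100 gens)
    rw [cert_card hcert, ho]

theorem topA : Subgroup.closure (permOf codesA '' {x | x < 10}) = J2.G100 :=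
  gen_top_of validA rfl rfl cA_cert (by decide +kernel) (by decide +kernel)

theorem topB : Subgroup.closure (permOf codesB '' {x | x < 10}) = J2.G100 :=
  gen_top_of validB rfl rfl cB_cert (by decide +kernel) (by decide +kernel)

end Cfsg.Agent.HJUniq
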