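import Cfsg.Agent.Lib.HJUniq.Complement

/-!
Labelled complements and the choice of the orientation.
-/

set_option autoImplicit false
set_option linter.style.haveILetI false
set_option maxRecDepth 8000
set_option synthInstance.maxSize 4000
set_option synthInstance.maxHeartbeats 400000

namespace Cfsg.Agent.HJUniq

open Cfsg.Agent.HJ

/-- An even permutation of five points from a list of images. -/
def mk5 (f g : Fin 5 → Fin 5) (h₁ : Function.LeftInverse g f) (h₂ : Function.RightInverse g f)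
    (h₃ : Equiv.Perm.sign (⟨f, g, h₁, h₂⟩ : Equiv.Perm (Fin 5)) = 1) : A5 :=
  ⟨⟨f, g, h₁, h₂⟩, Equiv.Perm.mem_alternatingGroup.2 h₃⟩

/-- `(0 1)(2 3)`. -/
def s0 : A5 := mk5 ![1, 0, 3, 2, 4] ![1, 0, 3, 2, 4] (by decide +kernel) (by decide +kernel) (by decide +kernel)

/-- `(0 1 2)`. -/
def x0 : A5 := mk5 ![1, 2, 0, 3, 4] ![2, 0, 1, 3, 4] (by decide +kernel) (by decide +kernel) (by decide +kernel)

/-- `(0 1)(2 4)`. -/
def p0 : A5 := mk5 ![1, 0, 4, 3, 2] ![1, 0, 4, 3, 2] (by decide +kernel) (by decide +kernel) (by decide +kernel)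

/-- `(1 4)(2 3)`. -/
def r0 : A5 := mk5 ![0, 4, 3, 2, 1] ![0, 4, 3, 2, 1] (by decide +kernel) (by decide +kernel) (by decide +kernel)

/-- The five-cycle. -/
def q0 : A5 := p0 * r0

/-- Conjugation of `A5` by a permutation. -/
def conj5 (σ : Equiv.Perm (Fin 5)) : A5 →* A5 where
  toFun τ := ⟨σ * τ * σ⁻¹, by
    have h := Equiv.Perm.mem_alternatingGroup.1 τ.2
    rw [Equiv.Perm.mem_alternatingGroup]
    simp [h]⟩
  map_one' := Subtype.ext (by simp)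
  map_mul' a b := Subtype.ext (by simp [mul_assoc])

theorem conj5_apply (σ : Equiv.Perm (Fin 5)) (τ : A5) (i : Fin 5) :
    ap (conj5 σ τ) i = σ (ap τ (σ⁻¹ i)) := rfl

theorem conj5_inv (σ : Equiv.Perm (Fin 5)) (τ : A5) : conj5 σ (conj5 σ⁻¹ τ) = τ :=
  Subtype.ext (by simp [conj5, mul_assoc])

/-- Any pair of an involution and an element of order three with a common fixed point is standard. -/
theorem label_exists : ∀ i : Fin 5, ∀ p : A5, ap p i = i → p * p = 1 → p ≠ 1 →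
    ∀ r : A5, ap r i = i → r ^ 3 = 1 → r ≠ 1 →
    ∃ σ : Equiv.Perm (Fin 5), σ i = 4 ∧ σ * (p : Equiv.Perm (Fin 5)) = (s0 : Equiv.Perm (Fin 5)) * σ ∧
      σ * (r : Equiv.Perm (Fin 5)) = (x0 : Equiv.Perm (Fin 5)) * σ := by
  decide +kernel

/-- An involution and an element of order three moving it to a commuting one have a common fixed point. -/
theorem common_fix : ∀ p : A5, p * p = 1 → p ≠ 1 → ∀ r : A5, r ^ 3 = 1 → r ≠ 1 →
    p * (r * p * r⁻¹) = r * p * r⁻¹ * p → ∃ i, ap p i = i ∧ ap r i = i := by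
  decide +kernel

variable {G : Type*} [Group G] [Finite G] {z : G} {Q : Subgroup G}
  {φ : ↥(Subgroup.centralizer ({z} : Set G)) →* A5} {u a x s : G} {K V : Subgroup G} {f : G}

/-- A labelled complement. -/
structure Lab (z : G) (Q : Subgroup G) (u x s f : G) (ι : A5 →* G) : Prop where
  inj : Function.Injective ι
  cz : ∀ τ, ι τ * z = z * ι τ
  cf : ∀ τ, ι τ * f = f * ι τ
  is : ι s0 = s
  ix : ι x0 = x
  fix : ∀ τ, ap τ 4 = 4 → ι τ * u = u * ι τ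
  fix' : ∀ τ, ι τ * u * (ι τ)⁻¹ = u ∨ ι τ * u * (ι τ)⁻¹ = u * z → ap τ 4 = 4
  cover : ∀ h, h * z = z * h → ∃ τ, (ι τ)⁻¹ * h ∈ Q ∧ (h * u = u * h → ap τ 4 = 4)

/-- The five images of `u`. -/
def yy (ι : A5 →* G) (u : G) (i : ℕ) : G := ι (q0 ^ (i + 1)) * u * (ι (q0 ^ (i + 1)))⁻¹

variable (C : Ctx z Q φ u a x s K V)
include C

theorem exists_lab (hf : InvFive z K f) : ∃ ι, Lab z Q u x s f ι := by
  classical
  have hb := comp_bijective C hf
  obtain ⟨hVc, hxc⟩ := V_le_comp C hf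
  obtain ⟨e, he⟩ : ∃ e : comp z f ≃* A5, ∀ w : comp z f, e w = φ ⟨(w : G), w.2.1⟩ :=
    ⟨MulEquiv.ofBijective _ hb, fun w => rfl⟩
  have psiK : ∀ w : comp z f, e w = psi φ (w : G) := fun w => by
    rw [he, psi, dif_pos (show (w : G) ∈ Subgroup.centralizer ({z} : Set G) from w.2.1)]
  have hsV := (V_mem C).1
  have psi1 : ∀ {g : G}, g ∈ comp z f → g ≠ 1 → psi φ g ≠ 1 := fun {g} hg h1 h => by
    rw [← psiK ⟨g, hg⟩, MulEquivClass.map_eq_one_iff] at h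
    exact h1 (congrArg Subtype.val h)
  have hi1 := C.S.pt_fix C.L.hu s C.L.hs.1 C.L.su
  have hi2 := C.S.pt_fix C.L.hu x C.L.xz C.L.xu
  obtain ⟨σ, hσ4, hσs, hσx⟩ := label_exists (pt φ u) (psi φ s) hi1 (C.S.outer_psi C.L.hs).1
    (C.S.outer_psi C.L.hs).2 (psi φ x) hi2
    (by rw [← C.S.psi_pow C.L.xz, C.L.x3]; exact (C.S.psi_eq_one (by simp)).2 Q.one_mem)
    (psi1 hxc C.x_ne)
  let ι : A5 →* G := ((comp z f).subtype.comp e.symm.toMonoidHom).comp (conj5 σ⁻¹)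
  have hιpsi : ∀ τ, psi φ (ι τ) = conj5 σ⁻¹ τ := fun τ => by
    show psi φ ((e.symm (conj5 σ⁻¹ τ) : comp z f) : G) = _
    rw [← psiK, e.apply_symm_apply]
  have hιmem : ∀ τ, ι τ ∈ comp z f := fun τ => (e.symm (conj5 σ⁻¹ τ)).2
  have hι_eq : ∀ {g : G} (τ : A5), g ∈ comp z f → conj5 σ⁻¹ τ = psi φ g → ι τ = g := fun {g} τ hg h => by
    show ((e.symm (conj5 σ⁻¹ τ) : comp z f) : G) = g
    rw [h, ← psiK ⟨g, hg⟩, e.symm_apply_apply]
  have hcz : ∀ τ, ι τ * z = z * ι τ := fun τ => mem_cent.1 (hιmem τ).1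
  have hconj4 : ∀ τ, ap (conj5 σ⁻¹ τ) (pt φ u) = pt φ u ↔ ap τ 4 = 4 := fun τ => by
    rw [conj5_apply, inv_inv, hσ4]
    constructor
    · intro h
      have h' := congrArg σ h
      rwa [Equiv.Perm.coe_inv, Equiv.apply_symm_apply, hσ4] at h'
    · intro h
      rw [h, ← hσ4, Equiv.Perm.coe_inv, Equiv.symm_apply_apply]
  have hstab : ∀ τ : A5, ap τ 4 = 4 → ∃ i j k : Fin 3, τ = x0 ^ (i : ℕ) * (s0 ^ (j : ℕ) * (x0 * s0 * x0⁻¹) ^ (k : ℕ)) := by
    clear * -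
    decide +kernel
  have his : ι s0 = s := hι_eq _ (hVc s hsV) (Subtype.ext (by
    show σ⁻¹ * (s0 : Equiv.Perm (Fin 5)) * σ⁻¹⁻¹ = _
    rw [inv_inv, mul_assoc, ← hσs, inv_mul_cancel_left]))
  have hix : ι x0 = x := hι_eq _ hxc (Subtype.ext (by
    show σ⁻¹ * (x0 : Equiv.Perm (Fin 5)) * σ⁻¹⁻¹ = _
    rw [inv_inv, mul_assoc, ← hσx, inv_mul_cancel_left]))
  refine ⟨ι, ⟨fun p q h => ?_, hcz, fun τ => mem_cent.1 (hιmem τ).2, his, hix, fun τ hτ => ?_,
    fun τ hτ => ?_, fun h hh => ?_⟩⟩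
  · have := congrArg (psi φ) h
    rw [hιpsi, hιpsi] at this
    rw [← conj5_inv σ p, ← conj5_inv σ q, this]
  · obtain ⟨i, j, k, rfl⟩ := hstab τ hτ
    have hm : ∀ {g : G}, g * u = u * g → g ∈ Subgroup.centralizer ({u} : Set G) := fun hg => mem_cent.2 hg
    refine mem_cent.1 ?_
    rw [map_mul, map_mul, map_pow, map_pow, map_pow, map_mul, map_mul, map_inv, his, hix]
    exact mul_mem (pow_mem (hm C.L.xu) _) (mul_mem (pow_mem (hm C.L.su) _)
      (pow_mem (mul_mem (mul_mem (hm C.L.xu) (hm C.L.su)) (inv_mem (hm C.L.xu))) _))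
  · rw [← hconj4, ← hιpsi]
    exact (C.S.pt_fix_iff (hcz τ) C.L.hu).2 hτ
  · refine ⟨conj5 σ (psi φ h), ?_, fun hhu => ?_⟩
    · set τ := conj5 σ (psi φ h)
      have e1 : psi φ (ι τ) = psi φ h := by
        rw [hιpsi]; exact Subtype.ext (by simp [τ, conj5, mul_assoc])
      have hcz' : (ι τ)⁻¹ * z = z * (ι τ)⁻¹ := C.S.H_inv (hcz τ)
      rw [← C.S.psi_eq_one (C.S.H_mul hcz' hh), C.S.psi_mul hcz' hh, C.S.psi_inv (hcz τ), e1,
        inv_mul_cancel]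
    · rw [← hconj4, show conj5 σ⁻¹ (conj5 σ (psi φ h)) = psi φ h from
        Subtype.ext (by simp [conj5, mul_assoc])]
      exact C.S.pt_fix C.L.hu h hh hhu

omit [Finite G] in
theorem huz : u * z = z * u := C.S.Q_comm_z C.L.hu.1

/-- The other orientation. -/
theorem swap : Ctx z Q φ (u * z) a⁻¹ x s K V where
  S := C.S
  L := by
    have haz : a⁻¹ * z * a = u * z := by
      have h1 : a * (u * z) * a⁻¹ = z := by
        rw [conj_mul', C.L.au, C.L.az, mul_assoc, ← huz C, ← mul_assoc, C.L.hu.2.1, one_mul]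
      calc a⁻¹ * z * a = a⁻¹ * (a * (u * z) * a⁻¹) * a := by rw [h1]
        _ = u * z := by group
    refine ⟨C.S.nci_mul_z C.L.hu, by rw [inv_inv]; exact haz, ?_, by rw [inv_pow, C.L.a3, inv_one], C.L.x3,
      C.L.xz, comm_mul' C.L.xu C.L.xz, ?_, ?_, comm_mul' C.L.su C.L.hs.1, C.L.hs, C.L.hs', C.L.hss, C.L.ne,
      C.L.comm, C.L.cyc⟩
    · rw [inv_inv, mul_assoc u, C.S.zz, mul_one]
      calc a⁻¹ * (u * z) * a = a⁻¹ * (a * u * a⁻¹) * a := by rw [C.L.au]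
        _ = u := by group
    · exact (Commute.inv_right C.L.xa).eq
    · exact (Commute.inv_right C.L.sa).eq
  D := ⟨C.D.hV, C.D.hK, C.D.comm, C.D.decomp, C.D.inter, C.D.zK, K.inv_mem C.D.aK,
    Or.inl ⟨C.iso, C.xK⟩⟩
  iso := C.iso
  xK := C.xK
where comm_mul' {g p q : G} (hp : g * p = p * g) (hq : g * q = q * g) : g * (p * q) = p * q * g :=
  Commute.mul_right hp hq

theorem yy_facts {ι : A5 →* G} (hL : Lab z Q u x s f ι) :
    (∀ i, Nci z Q (yy ι u i)) ∧ (∀ i j, i < 5 → j < 5 → i ≠ j → pt φ (yy ι u i) ≠ pt φ (yy ι u j)) ∧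
    yy ι u 4 = u := by
  have hq5 : q0 ^ (4 + 1) = 1 := by decide +kernel
  refine ⟨fun i => C.S.nci_conj (hL.cz _) C.L.hu, fun i j hi hj hij h => ?_, ?_⟩
  · set τ := (q0 ^ (j + 1))⁻¹ * q0 ^ (i + 1)
    have hne : ap τ 4 ≠ 4 := by
      have h : ∀ a b : Fin 5, a ≠ b → ap ((q0 ^ ((b : ℕ) + 1))⁻¹ * q0 ^ ((a : ℕ) + 1)) 4 ≠ 4 := by
        decide +kernel
      exact h ⟨i, hi⟩ ⟨j, hj⟩ (fun e => hij (congrArg Fin.val e))
    apply hne
    apply hL.fix'
    obtain ⟨g, hg⟩ : ∃ g, g = ι (q0 ^ (j + 1)) := ⟨_, rfl⟩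
    have hgz : g⁻¹ * z = z * g⁻¹ := hg ▸ C.S.H_inv (hL.cz _)
    have e : ι τ * u * (ι τ)⁻¹ = g⁻¹ * yy ι u i * g⁻¹⁻¹ := by
      rw [map_mul, map_inv, hg, yy]; group
    have e2 : g⁻¹ * yy ι u j * g⁻¹⁻¹ = u := by rw [yy, ← hg]; group
    have hu' := C.L.hu
    refine (C.S.pt_eq_iff hu' (C.S.nci_conj (hL.cz _) hu')).1 ?_
    rw [e, yy, C.S.pt_conj hgz (C.S.nci_conj (hL.cz _) hu'), ← yy, h, yy,
      ← C.S.pt_conj hgz (C.S.nci_conj (hL.cz _) hu'), ← yy, e2]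
  · rw [yy, hq5, map_one]; simp

omit C in
/-- The product of the five. -/
def prod5 (ι : A5 →* G) (u : G) : G := yy ι u 0 * yy ι u 1 * (yy ι u 2 * yy ι u 3) * yy ι u 4

theorem prod5_cases {ι : A5 →* G} (hL : Lab z Q u x s f ι) : prod5 ι u = 1 ∨ prod5 ι u = z := by
  obtain ⟨hN, hne, h4⟩ := yy_facts C hL
  have hd := fun i j (hi : i < 5) (hj : j < 5) (h : i ≠ j) => hne i j hi hj h
  obtain ⟨-, -, -, hp, na, nb, nc, nd⟩ := C.S.four_prod (hN 0) (hN 1) (hN 2) (hN 3)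
    (hd 0 1 (by omega) (by omega) (by omega)) (hd 0 2 (by omega) (by omega) (by omega))
    (hd 0 3 (by omega) (by omega) (by omega)) (hd 1 2 (by omega) (by omega) (by omega))
    (hd 1 3 (by omega) (by omega) (by omega)) (hd 2 3 (by omega) (by omega) (by omega))
  set i := pt φ (yy ι u 0 * yy ι u 1 * (yy ι u 2 * yy ι u 3))
  have hpig : ∀ v : Fin 5 → Fin 5, Function.Injective v → ∀ i, i ≠ v 0 → i ≠ v 1 → i ≠ v 2 → i ≠ v 3 → i = v 4 := by
    intro v hv i h0 h1 h2 h3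
    obtain ⟨k, hk⟩ := (Finite.injective_iff_surjective.1 hv) i
    subst hk
    fin_cases k <;> simp_all
  have hi : i = pt φ (yy ι u 4) := hpig (fun k => pt φ (yy ι u k)) (fun p q h => by
    by_contra hpq
    exact hd p q p.2 q.2 (fun e => hpq (Fin.ext e)) h) i na nb nc nd
  rw [h4] at hi
  rcases (C.S.pt_eq_iff C.L.hu hp).1 hi with e | e <;> rw [prod5, e, h4]
  · exact Or.inl C.L.hu.2.1
  · right
    rw [huz C, mul_assoc, C.L.hu.2.1, mul_one]

theorem prod5_swap {ι : A5 →* G} (hL : Lab z Q u x s f ι) (h : prod5 ι u = z) : prod5 ι (u * z) = 1 := by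
  have hy : ∀ i, yy ι (u * z) i = yy ι u i * z := fun i => by
    rw [yy, yy, conj_mul', conj_eq_iff_comm.2 (hL.cz _)]
  have hc : ∀ i, yy ι u i * z = z * yy ι u i := fun i => C.S.Q_comm_z ((yy_facts C hL).1 i).1
  have hzz := C.S.zz
  rw [prod5] at h ⊢
  simp only [hy]
  have c0 := hc 0
  have c1 := hc 1
  have c2 := hc 2
  have c3 := hc 3
  have c4 := hc 4
  generalize yy ι u 0 = a0, yy ι u 1 = a1, yy ι u 2 = a2, yy ι u 3 = a3, yy ι u 4 = a4 at *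
  have k : ∀ p q : G, q * z = z * q → p * z * (q * z) = p * q := fun p q hq => by
    rw [mul_assoc p, hq, ← mul_assoc z z, hzz, one_mul]
  rw [k a0 a1 c1, k a2 a3 c3, ← mul_assoc, h, hzz]

theorem swap_lab {ι : A5 →* G} (hL : Lab z Q u x s f ι) : Lab z Q (u * z) x s f ι where
  inj := hL.inj
  cz := hL.cz
  cf := hL.cf
  is := hL.is
  ix := hL.ix
  fix τ hτ := Commute.mul_right (hL.fix τ hτ) (hL.cz τ)
  fix' τ hτ := by
    apply hL.fix'
    rw [conj_mul', conj_eq_iff_comm.2 (hL.cz τ), mul_assoc u, C.S.zz, mul_one] at hτ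
    rcases hτ with e | e
    · exact Or.inl (mul_right_cancel e)
    · refine Or.inr ?_
      calc ι τ * u * (ι τ)⁻¹ = ι τ * u * (ι τ)⁻¹ * z * z := by rw [mul_assoc _ z z, C.S.zz, mul_one]
        _ = u * z := by rw [e]
  cover h hh := by
    obtain ⟨τ, h1, h2⟩ := hL.cover h hh
    refine ⟨τ, h1, fun e => h2 ?_⟩
    have : Commute h (u * z * z) := Commute.mul_right e hh
    rwa [mul_assoc u, C.S.zz, mul_one] at this

/-- An orientation in which the five images multiply to one. -/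
theorem exists_oriented (hf : InvFive z K f) :
    ∃ u' a', ∃ ι, Ctx z Q φ u' a' x s K V ∧ Lab z Q u' x s f ι ∧ prod5 ι u' = 1 := by
  obtain ⟨ι, hL⟩ := exists_lab C hf
  rcases prod5_cases C hL with h | h
  · exact ⟨u, a, ι, C, hL, h⟩
  · exact ⟨u * z, a⁻¹, ι, swap C, swap_lab C hL, prod5_swap C hL h⟩

end Cfsg.Agent.HJUniq
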