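import Cfsg.Agent.Lib.HJUniq.WeakClosed

/-!
A normal extraspecial subgroup of order 32 with quotient `A₅` in an involution centraliser of a simple
group: it contains its centraliser, it is of minus type, and two classes of involutions give the order
of the Hall–Janko group.
-/

set_option autoImplicit false
set_option linter.style.haveILetI false
set_option linter.unusedSectionVars false

namespace Cfsg.Agent.HJUniq

open Cfsg.Agent.HJ
open scoped commutatorElement

universe u

variable {G : Type u} [Group G] [Finite G]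

/-- The data of the hypothesis, inside the group. -/
structure Base (t : G) (Q : Subgroup G) (φ : ↥(Subgroup.centralizer ({t} : Set G)) →* A5) : Prop where
  tt : t * t = 1
  t1 : t ≠ 1
  le : Q ≤ Subgroup.centralizer ({t} : Set G)
  card : Nat.card Q = 32
  tQ : t ∈ Q
  center : ∀ x ∈ Q, (∀ y ∈ Q, x * y = y * x) → x = 1 ∨ x = t
  comm : ∀ x ∈ Q, ∀ y ∈ Q, x * y = y * x ∨ x * y = y * x * t
  sq : ∀ x ∈ Q, x * x = 1 ∨ x * x = t
  surj : Function.Surjective φ
  ker : ∀ h, φ h = 1 ↔ (h : G) ∈ Q

namespace Base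

variable {t : G} {Q : Subgroup G} {φ : ↥(Subgroup.centralizer ({t} : Set G)) →* A5} (B : Base t Q φ)
include B

theorem comm_t {x : G} (hx : x ∈ Q) : x * t = t * x := mem_cent.1 (B.le hx)

theorem conj_Q {g x : G} (hg : g * t = t * g) (hx : x ∈ Q) : g * x * g⁻¹ ∈ Q := by
  have h := (B.ker (⟨g, mem_cent.2 hg⟩ * ⟨x, B.le hx⟩ * ⟨g, mem_cent.2 hg⟩⁻¹)).1 (by
    rw [map_mul, map_mul, map_inv, (B.ker ⟨x, B.le hx⟩).2 hx, mul_one, mul_inv_cancel])
  exact h

/-- No abelian subgroup of order 16. -/
theorem no16 (A : Subgroup G) (hA : A ≤ Q) (hab : ∀ a ∈ A, ∀ b ∈ A, a * b = b * a) :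
    Nat.card A < 16 := by
  classical
  by_contra h
  push Not at h
  obtain ⟨m, hm⟩ : Nat.card A ∣ 32 := B.card ▸ Subgroup.card_dvd_of_le hA
  have hm2 : m ≤ 2 := by nlinarith
  have hm0 : m ≠ 0 := by rintro rfl; simp at hm
  rcases (show m = 1 ∨ m = 2 by omega) with rfl | rfl
  · have hAQ : A = Q := Subgroup.eq_of_le_of_card_ge hA (by rw [B.card]; omega)
    have hsub : ∀ x ∈ Q, x = 1 ∨ x = t := fun x hx => B.center x hx fun y hy => hab x (hAQ ▸ hx) y (hAQ ▸ hy)
    have hle : Nat.card Q ≤ Nat.card ({1, t} : Finset G) :=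
      Nat.card_le_card_of_injective (fun x => ⟨x.1, by
        rcases hsub x.1 x.2 with e | e <;> simp [e]⟩) fun x y e => Subtype.ext (congrArg Subtype.val e :)
    rw [B.card, Nat.card_eq_finsetCard] at hle
    exact absurd (hle.trans Finset.card_le_two) (by norm_num)
  · have hA16 : Nat.card A = 16 := by omega
    obtain ⟨x, hxQ, hxA⟩ := SetLike.exists_of_lt (lt_of_le_of_ne hA fun e => by
      rw [e, B.card] at hA16; omega)
    -- elements of `A` commuting with `x` are central
    have hzc : ∀ a ∈ A, a * x = x * a → a = 1 ∨ a = t := by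
      intro a ha hax
      refine B.center a (hA ha) fun y hy => ?_
      set K := Q ⊓ Subgroup.centralizer ({a} : Set G)
      have hle : A ≤ K := fun b hb => Subgroup.mem_inf.2 ⟨hA hb, mem_cent.2 (hab b hb a ha)⟩
      have hlt : Nat.card A < Nat.card K := by
        refine lt_of_le_of_ne (Subgroup.card_le_of_le hle) fun e => hxA ?_
        rw [Subgroup.eq_of_le_of_card_ge hle e.ge]
        exact Subgroup.mem_inf.2 ⟨hxQ, mem_cent.2 hax.symm⟩
      have hKQ : K = Q := by
        refine Subgroup.eq_of_le_of_card_ge inf_le_left ?_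
        obtain ⟨n, hn⟩ : Nat.card K ∣ 32 := B.card ▸ Subgroup.card_dvd_of_le inf_le_left
        rw [B.card]
        rcases Nat.lt_or_ge n 2 with h2 | h2
        · have : n ≤ 1 := by omega
          nlinarith
        · nlinarith
      exact (mem_cent.1 (Subgroup.mem_inf.1 (hKQ ▸ hy : y ∈ K)).2).symm
    -- so the commutator with `x` is almost injective on `A`
    have hle : Nat.card A ≤ Nat.card (Fin 2 × ({1, t} : Finset G)) := by
      by_cases hall : ∀ a ∈ A, a * x = x * a
      · refine Nat.card_le_card_of_injective (fun a => ((0 : Fin 2), ⟨a.1, ?_⟩)) fun a b e =>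
          Subtype.ext (congrArg (fun p => (p.2 : G)) e :)
        rcases hzc a.1 a.2 (hall a.1 a.2) with e | e <;> simp [e]
      · push Not at hall
        obtain ⟨a₀, ha₀, hna₀⟩ := hall
        have e₀ := (B.comm a₀ (hA ha₀) x hxQ).resolve_left hna₀
        refine Nat.card_le_card_of_injective (fun a : A => if h : a.1 * x = x * a.1 then
          ((0 : Fin 2), (⟨a.1, by rcases hzc a.1 a.2 h with e | e <;> simp [e]⟩ : ({1, t} : Finset G)))
          else ((1 : Fin 2), ⟨a₀⁻¹ * a.1, by
            have h2 : a₀⁻¹ * a.1 * x = x * (a₀⁻¹ * a.1) := by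
              have e := (B.comm a.1 (hA a.2) x hxQ).resolve_left h
              calc a₀⁻¹ * a.1 * x = a₀⁻¹ * (a.1 * x) := by group
                _ = a₀⁻¹ * (x * a.1 * t) := by rw [e]
                _ = a₀⁻¹ * (x * a₀ * t) * (t⁻¹ * a₀⁻¹ * (a.1 * t)) := by group
                _ = x * (t⁻¹ * a₀⁻¹ * (a.1 * t)) := by rw [← e₀]; group
                _ = x * (a₀⁻¹ * a.1) := by
                  rw [B.comm_t (hA a.2)]
                  have := B.comm_t (Q.inv_mem (hA ha₀))
                  calc x * (t⁻¹ * a₀⁻¹ * (t * a.1)) = x * (t⁻¹ * (a₀⁻¹ * t) * a.1) := by group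
                    _ = x * (a₀⁻¹ * a.1) := by rw [this]; group
            rcases hzc _ (A.mul_mem (A.inv_mem ha₀) a.2) h2 with e | e <;> simp [e]⟩)) ?_
        intro a b e
        dsimp only at e
        by_cases h1 : a.1 * x = x * a.1 <;> by_cases h2 : b.1 * x = x * b.1
        · rw [dif_pos h1, dif_pos h2] at e
          exact Subtype.ext (congrArg (fun p => (p.2 : G)) e :)
        · rw [dif_pos h1, dif_neg h2] at e
          exact absurd (congrArg Prod.fst e :) (by simp)
        · rw [dif_neg h1, dif_pos h2] at e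
          exact absurd (congrArg Prod.fst e :) (by simp)
        · rw [dif_neg h1, dif_neg h2] at e
          exact Subtype.ext (mul_left_cancel (congrArg (fun p => (p.2 : G)) e :))
    rw [Nat.card_prod, Nat.card_fin, Nat.card_eq_finsetCard, hA16] at hle
    have : ({1, t} : Finset G).card ≤ 2 := Finset.card_le_two
    omega

theorem card_H : Nat.card (Subgroup.centralizer ({t} : Set G)) = 1920 := by
  rw [← φ.ker.card_mul_index, Subgroup.index_ker, MonoidHom.range_eq_top.2 B.surj, Subgroup.card_top, card_A5]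
  have : Nat.card φ.ker = 32 := by
    rw [← B.card]
    exact Nat.card_congr
      { toFun := fun h => ⟨h.1.1, (B.ker h.1).1 h.2⟩
        invFun := fun x => ⟨⟨x.1, B.le x.2⟩, (B.ker ⟨x.1, B.le x.2⟩).2 x.2⟩
        left_inv := fun h => rfl
        right_inv := fun x => rfl }
  rw [this]

theorem not_central [IsSimpleGroup G] : t ∉ Subgroup.center G := by
  intro h
  rcases IsSimpleGroup.eq_bot_or_eq_top_of_normal (Subgroup.center G) inferInstance with e | e
  · exact B.t1 (Subgroup.mem_bot.1 (e ▸ h))
  · haveI : Fact (Nat.Prime 2) := ⟨Nat.prime_two⟩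
    rcases IsSimpleGroup.eq_bot_or_eq_top_of_normal Q ⟨fun x hx g => by
      have hc := Subgroup.mem_center_iff.1 (e ▸ Subgroup.mem_top g : g ∈ Subgroup.center G) x
      rwa [← hc, mul_inv_cancel_right]⟩ with hQ | hQ
    · exact B.t1 (Subgroup.mem_bot.1 (hQ ▸ B.tQ))
    · have h1 := Subgroup.card_le_card_group (Subgroup.centralizer ({t} : Set G))
      have h2 := B.card
      rw [hQ, Subgroup.card_top] at h2
      rw [B.card_H, h2] at h1
      omega

/-- The subgroup contains its centraliser. -/
theorem self [IsSimpleGroup G] : ∀ h : G, h * t = t * h → (∀ x ∈ Q, h * x = x * h) → h ∈ Q := by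
  classical
  let K : Subgroup ↥(Subgroup.centralizer ({t} : Set G)) :=
    (Subgroup.centralizer (Q : Set G)).subgroupOf _
  have hKn : K.Normal := ⟨fun k hk g => by
    simp only [K, Subgroup.mem_subgroupOf, Subgroup.coe_mul, InvMemClass.coe_inv,
      Subgroup.mem_centralizer_iff] at hk ⊢
    intro x hx
    have h1 := hk _ (B.conj_Q (mem_cent.1 (inv_mem g.2)) hx)
    calc x * ((g : G) * k * (g : G)⁻¹) = g * ((g : G)⁻¹ * x * (g : G)⁻¹⁻¹ * k) * (g : G)⁻¹ := by group
      _ = g * (k * ((g : G)⁻¹ * x * (g : G)⁻¹⁻¹)) * (g : G)⁻¹ := by rw [h1]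
      _ = _ := by group⟩
  haveI : IsSimpleGroup A5 := alternatingGroup.isSimpleGroup (by simp)
  rcases IsSimpleGroup.eq_bot_or_eq_top_of_normal _ (hKn.map φ B.surj) with hK | hK
  · intro h hh hc
    have hmem : (⟨h, mem_cent.2 hh⟩ : Subgroup.centralizer ({t} : Set G)) ∈ K :=
      Subgroup.mem_subgroupOf.2 (Subgroup.mem_centralizer_iff.2 fun x hx => (hc x hx).symm)
    exact (B.ker _).1 (Subgroup.mem_bot.1 (hK ▸ Subgroup.mem_map_of_mem φ hmem))
  exfalso
  have hdec : ∀ c : G, c * t = t * c → ∃ e ∈ Q, ∃ k, (∀ x ∈ Q, k * x = x * k) ∧ c = e * k := by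
    intro c hc
    obtain ⟨k, hk, hφ⟩ := Subgroup.mem_map.1 (hK ▸ Subgroup.mem_top (φ ⟨c, mem_cent.2 hc⟩))
    refine ⟨c * (k : G)⁻¹, (B.ker (⟨c, mem_cent.2 hc⟩ * k⁻¹)).1 (by
      rw [map_mul, map_inv, hφ, mul_inv_cancel]), k, fun x hx => ?_, by group⟩
    exact (Subgroup.mem_centralizer_iff.1 (Subgroup.mem_subgroupOf.1 hk) x hx).symm
  -- squares among elements of order dividing four
  have hsqH : ∀ c : G, c * t = t * c → c * c * (c * c) = 1 → c * c = 1 ∨ c * c = t := by
    intro c hc h4
    obtain ⟨e, he, k, hk, rfl⟩ := hdec c hc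
    have hek : e * k = k * e := (hk e he).symm
    have hcc : e * k * (e * k) = e * e * (k * k) := by
      calc e * k * (e * k) = e * (k * e) * k := by group
        _ = _ := by rw [← hek]; group
    have hkt : k * t = t * k := hk t B.tQ
    have hee : e * e * (e * e) = 1 := by rcases B.sq e he with h | h <;> simp [h, B.tt]
    have hk4 : k * k * (k * k) = 1 := by
      rw [hcc] at h4
      calc k * k * (k * k) = e * e * (e * e) * (k * k * (k * k)) := by rw [hee, one_mul]
        _ = e * e * (k * k) * (e * e * (k * k)) := by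
          have h2 : Commute (k * k) (e * e) :=
            Commute.mul_left (Commute.mul_right (hk e he) (hk e he)) (Commute.mul_right (hk e he) (hk e he))
          calc e * e * (e * e) * (k * k * (k * k)) = e * e * (e * e * (k * k)) * (k * k) := by group
            _ = e * e * (k * k * (e * e)) * (k * k) := by rw [h2.eq]
            _ = _ := by group
        _ = 1 := h4
    set k' : Subgroup.centralizer ({t} : Set G) := ⟨k, mem_cent.2 hkt⟩
    have hφ : φ k' * φ k' = 1 := pow_four_sq _ (by
      rw [← map_pow, show k' ^ 4 = 1 from Subtype.ext (by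
        rw [Subgroup.coe_pow]
        show k ^ 4 = 1
        rw [← hk4]; simp only [pow_succ, pow_zero, one_mul, mul_assoc]), map_one])
    have hkkQ : k * k ∈ Q := (B.ker (k' * k')).1 (by rw [map_mul]; exact hφ)
    have hkk := B.center _ hkkQ fun y hy =>
      (Commute.mul_left (hk y hy : Commute k y) (hk y hy)).eq
    rw [hcc]
    rcases B.sq e he with a | a <;> rcases hkk with b | b <;> simp [a, b, B.tt]
  -- the involution is isolated
  have hiso : ∀ g : G, Commute t (g * t * g⁻¹) → g * t * g⁻¹ = t := by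
    intro g hg
    obtain ⟨e, he, k, hk, hs⟩ := hdec _ hg.symm.eq
    obtain ⟨d, hd, hde, hd2⟩ : ∃ d ∈ Q, d * e = e * d ∧ d * d = t := by
      by_contra hno
      push Not at hno
      set C := Q ⊓ Subgroup.centralizer ({e} : Set G)
      have hinv : ∀ a ∈ C, a * a = 1 := fun a ha =>
        (B.sq a (Subgroup.mem_inf.1 ha).1).resolve_right (hno a (Subgroup.mem_inf.1 ha).1
          (mem_cent.1 (Subgroup.mem_inf.1 ha).2))
      have hab : ∀ a ∈ C, ∀ b ∈ C, a * b = b * a := fun a ha b hb => by
        have h := inv_of_sq (hinv _ (C.mul_mem ha hb))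
        rw [mul_inv_rev, inv_of_sq (hinv a ha), inv_of_sq (hinv b hb)] at h
        exact h.symm
      have horb : Nat.card {y : G // ∃ g ∈ Q, g * e * g⁻¹ = y} ≤ 2 := by
        refine le_trans (Nat.card_le_card_of_injective (β := ({e, e * t} : Finset G))
          (fun y => ⟨y.1, ?_⟩) fun a b h => Subtype.ext (congrArg Subtype.val h :)) ?_
        · obtain ⟨q, hq, hy⟩ := y.2
          rw [Finset.mem_insert, Finset.mem_singleton, ← hy]
          rcases B.comm q hq e he with h | h
          · left; rw [h]; group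
          · right; rw [h, mul_assoc (e * q), ← B.comm_t (Q.inv_mem hq)]; group
        · rw [Nat.card_eq_finsetCard]; exact Finset.card_le_two
      have h := card_conj_orbit Q e
      rw [B.card] at h
      have := B.no16 C inf_le_left hab
      nlinarith
    have hds : d * (g * t * g⁻¹) = g * t * g⁻¹ * d := by
      rw [hs]
      calc d * (e * k) = d * e * k := by group
        _ = e * (d * k) := by rw [hde]; group
        _ = e * (k * d) := by rw [hk d hd]
        _ = _ := by group
    have hc : g⁻¹ * d * g * t = t * (g⁻¹ * d * g) := by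
      calc g⁻¹ * d * g * t = g⁻¹ * (d * (g * t * g⁻¹)) * g := by group
        _ = g⁻¹ * (g * t * g⁻¹ * d) * g := by rw [hds]
        _ = _ := by group
    have hcc : g⁻¹ * d * g * (g⁻¹ * d * g) = g⁻¹ * t * g := by rw [← hd2]; group
    rcases hsqH _ hc (by
      rw [hcc]
      calc g⁻¹ * t * g * (g⁻¹ * t * g) = g⁻¹ * (t * t) * g := by group
        _ = 1 := by rw [B.tt]; group) with h | h <;> rw [hcc] at h
    · exact absurd (by calc t = g * (g⁻¹ * t * g) * g⁻¹ := by group
        _ = 1 := by rw [h]; group) B.t1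
    · calc g * t * g⁻¹ = g * (g⁻¹ * t * g) * g⁻¹ := by rw [h]
        _ = t := by group
  have hZ := BrauerSuzuki.zStar G t (orderOf_eq_two_iff'.2 ⟨B.tt, B.t1⟩) hiso
  rcases IsSimpleGroup.eq_bot_or_eq_top_of_normal _ (FittingCores.pPrimeCore_normal (G := G) 2) with h | h
  · refine B.not_central (Subgroup.mem_center_iff.2 fun g => ?_)
    have := hZ g
    rw [h, Subgroup.mem_bot, mul_inv_eq_one] at this
    exact mul_inv_eq_iff_eq_mul.1 this
  · have hco := FittingCores.pPrimeCore_coprime (G := G) 2
    rw [h, Subgroup.card_top] at hco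
    have hd := (orderOf_eq_two_iff'.2 ⟨B.tt, B.t1⟩) ▸ orderOf_dvd_natCard t
    have := Nat.eq_one_of_dvd_coprimes hco hd (dvd_refl 2)
    omega

/-- The subgroup is of minus type. -/
theorem minus [IsSimpleGroup G] (A : Subgroup G) (hA : A ≤ Q) (hA2 : ∀ a ∈ A, a * a = 1) :
    Nat.card A ≤ 4 := by
  classical
  haveI := Fintype.ofFinite G
  have hab : ∀ a ∈ A, ∀ b ∈ A, a * b = b * a := fun a ha b hb => by
    have h := inv_of_sq (hA2 _ (A.mul_mem ha hb))
    rw [mul_inv_rev, inv_of_sq (hA2 a ha), inv_of_sq (hA2 b hb)] at h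
    exact h.symm
  by_contra hgt
  push Not at hgt
  have h16 := B.no16 A hA hab
  have hA8 : Nat.card A = 8 := by
    obtain ⟨j, hj, he⟩ := (Nat.dvd_prime_pow Nat.prime_two).1
      (show Nat.card A ∣ 2 ^ 5 by rw [show (2:ℕ)^5 = 32 by norm_num, ← B.card]; exact Subgroup.card_dvd_of_le hA)
    rw [he] at hgt h16 ⊢
    interval_cases j <;> omega
  have htA : t ∈ A := by
    by_contra htA
    set A' := A ⊔ Subgroup.zpowers t
    have hle : A' ≤ Q := sup_le hA (Subgroup.zpowers_le.2 B.tQ)
    have hab' : ∀ a ∈ A', ∀ b ∈ A', a * b = b * a := by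
      have hgen : A' = Subgroup.closure ((A : Set G) ∪ {t}) := by
        rw [Subgroup.closure_union, Subgroup.closure_eq, ← Subgroup.zpowers_eq_closure]
      haveI := Subgroup.isMulCommutative_closure (k := (A : Set G) ∪ {t}) (by
        rintro a (ha | rfl) b (hb | rfl)
        exacts [hab a ha b hb, B.comm_t (hA ha), (B.comm_t (hA hb)).symm, rfl])
      intro a ha b hb
      rw [hgen] at ha hb
      exact congrArg Subtype.val (IsMulCommutative.is_comm.comm
        (⟨a, ha⟩ : Subgroup.closure ((A : Set G) ∪ {t})) ⟨b, hb⟩)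
    have h8 : Nat.card A < Nat.card A' := lt_of_le_of_ne (Subgroup.card_le_of_le le_sup_left) fun e => htA (by
      rw [Subgroup.eq_of_le_of_card_ge (le_sup_left : A ≤ A') e.ge]
      exact le_sup_right (α := Subgroup G) (Subgroup.mem_zpowers t))
    have h16' := B.no16 A' hle hab'
    obtain ⟨j, hj⟩ : Nat.card A ∣ Nat.card A' := Subgroup.card_dvd_of_le le_sup_left
    rw [hA8] at hj h8
    omega
  -- an element of order five
  haveI : Fact (Nat.Prime 5) := ⟨by norm_num⟩
  obtain ⟨f₀, hf₀⟩ := exists_prime_orderOf_dvd_card' (G := Subgroup.centralizer ({t} : Set G)) 5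
    (by rw [B.card_H]; norm_num)
  set f : G := (f₀ : G) with hfdef
  have hf5 : f ^ 5 = 1 := by
    rw [hfdef, ← Subgroup.coe_pow, ← hf₀, pow_orderOf_eq_one, Subgroup.coe_one]
  have hft : f * t = t * f := mem_cent.1 f₀.2
  have hfix : ∀ x ∈ Q, f * x = x * f → x = 1 ∨ x = t := by
    set C := Q ⊓ Subgroup.centralizer ({f} : Set G)
    have h := card_fixed_modEq hf5 (Q : Set G) fun y hy => B.conj_Q hft hy
    have e1 : Nat.card {y : G // y ∈ (Q : Set G)} = 32 := B.card
    have e2 : Nat.card {y : G // y ∈ (Q : Set G) ∧ f * y = y * f} = Nat.card C :=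
      Nat.card_congr (Equiv.subtypeEquivRight fun y => by
        rw [Subgroup.mem_inf, mem_cent, SetLike.mem_coe, eq_comm (a := f * y)])
    rw [e1, e2] at h
    obtain ⟨j, hj, he⟩ := (Nat.dvd_prime_pow Nat.prime_two).1
      (show Nat.card C ∣ 2 ^ 5 by rw [show (2:ℕ)^5 = 32 by norm_num, ← B.card]; exact Subgroup.card_dvd_of_le inf_le_left)
    rw [he] at h
    interval_cases j <;> first | exact absurd h (by decide) | skip
    · intro x hx hxf
      by_contra hne
      push Not at hne
      have hsub : Nat.card ({1, t, x} : Finset G) ≤ Nat.card C :=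
        Nat.card_le_card_of_injective (fun y => ⟨y.1, by
          have := y.2
          simp only [Finset.mem_insert, Finset.mem_singleton] at this
          rcases this with e | e | e <;> rw [e]
          exacts [C.one_mem, Subgroup.mem_inf.2 ⟨B.tQ, mem_cent.2 hft.symm⟩,
            Subgroup.mem_inf.2 ⟨hx, mem_cent.2 hxf.symm⟩]⟩) fun a b e => Subtype.ext (congrArg Subtype.val e :)
      rw [Nat.card_eq_finsetCard, Finset.card_eq_three.2 ⟨1, t, x, B.t1.symm, hne.1.symm, hne.2.symm, rfl⟩, he] at hsub
      omega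
    · exfalso
      have hC : C = Q := Subgroup.eq_of_le_of_card_ge inf_le_left (by rw [B.card, he]; norm_num)
      have hfQ : f ∈ Q := B.self f hft fun y hy => (mem_cent.1 (Subgroup.mem_inf.1 (hC ▸ hy : y ∈ C)).2).symm
      have hd := Subgroup.orderOf_dvd_natCard Q hfQ
      rw [hfdef, Subgroup.orderOf_coe, hf₀, B.card] at hd
      norm_num at hd
  -- counting the involutions
  set SQ : Finset G := Finset.univ.filter fun x => x ∈ Q with hSQ
  set SA : Finset G := Finset.univ.filter fun x => x ∈ A with hSA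
  have cQ : SQ.card = 32 := by rw [← B.card, Nat.card_eq_fintype_card, Fintype.card_subtype]
  have cA : SA.card = 8 := by rw [← hA8, Nat.card_eq_fintype_card, Fintype.card_subtype]
  set O := SQ \ SA with hO
  have cO : O.card = 24 := by
    rw [hO, Finset.card_sdiff_of_subset (fun x hx => by
      simp only [hSA, hSQ, Finset.mem_filter, Finset.mem_univ, true_and] at hx ⊢; exact hA hx), cQ, cA]
  have memO : ∀ {x}, x ∈ O ↔ x ∈ Q ∧ x ∉ A := fun {x} => by simp [hO, hSQ, hSA]
  have row : ∀ x ∈ O, (SA.filter fun a => x * a * (x * a) = 1).card = 4 := by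
    intro x hx
    obtain ⟨hxQ, hxA⟩ := memO.1 hx
    obtain ⟨b, hb, hbx⟩ : ∃ b ∈ A, b * x ≠ x * b := by
      by_contra hall
      push Not at hall
      set A' := Subgroup.closure ((A : Set G) ∪ {x})
      haveI := Subgroup.isMulCommutative_closure (k := (A : Set G) ∪ {x}) (by
        rintro a (ha | rfl) c (hc | rfl)
        exacts [hab a ha c hc, hall a ha, (hall c hc).symm, rfl])
      have hle : A' ≤ Q := (Subgroup.closure_le _).2 (Set.union_subset hA (Set.singleton_subset_iff.2 hxQ))
      have hAA' : A ≤ A' := fun a ha => Subgroup.subset_closure (Or.inl ha)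
      have h16' := B.no16 A' hle fun a ha c hc =>
        congrArg Subtype.val (IsMulCommutative.is_comm.comm (⟨a, ha⟩ : A') ⟨c, hc⟩)
      obtain ⟨j, hj⟩ : Nat.card A ∣ Nat.card A' := Subgroup.card_dvd_of_le hAA'
      have hlt : Nat.card A < Nat.card A' := lt_of_le_of_ne (Subgroup.card_le_of_le hAA') fun e => hxA (by
        rw [Subgroup.eq_of_le_of_card_ge hAA' e.ge]; exact Subgroup.subset_closure (Or.inr rfl))
      rw [hA8] at hj hlt
      omega
    have hb' := (B.comm b (hA hb) x hxQ).resolve_left hbx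
    have expand : ∀ a ∈ A, x * a * (x * a) = if a * x = x * a then x * x else x * x * t := by
      intro a ha
      have e0 : x * a * (x * a) = x * (a * x) * a := by group
      split_ifs with h
      · rw [e0, h, ← mul_assoc x, mul_assoc, hA2 a ha, mul_one]
      · rw [e0, (B.comm a (hA ha) x hxQ).resolve_left h,
          show x * (x * a * t) * a = x * x * (a * t * a) by group, B.comm_t (hA ha), mul_assoc t, hA2 a ha,
          mul_one]
    have hxt : ∀ a ∈ A, (a * x = x * a ↔ ¬ (b * a) * x = x * (b * a)) := by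
      intro a ha
      rcases em (a * x = x * a) with h | h
      · refine iff_of_true h fun h2 => ?_
        have : b * x = x * b := mul_right_cancel (b := a) (by
          calc b * x * a = b * (a * x) := by rw [h]; group
            _ = x * b * a := by rw [← mul_assoc, h2]; group)
        exact hbx this
      · refine iff_of_false h (not_not.2 ?_)
        have e := (B.comm a (hA ha) x hxQ).resolve_left h
        calc b * a * x = b * (x * a * t) := by rw [← e]; group
          _ = (b * x) * (a * t) := by group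
          _ = x * b * t * (a * t) := by rw [hb']
          _ = x * b * (a * (t * t)) := by
              have e2 := B.comm_t (hA ha)
              calc x * b * t * (a * t) = x * b * (t * a) * t := by group
                _ = x * b * (a * t) * t := by rw [e2]
                _ = _ := by group
          _ = x * (b * a) := by rw [B.tt]; group
    have hsplit : (SA.filter fun a => a * x = x * a).card = (SA.filter fun a => ¬ a * x = x * a).card := by
      refine Finset.card_bij' (fun a _ => b * a) (fun a _ => b⁻¹ * a) (fun a ha => ?_) (fun a ha => ?_)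
        (fun a _ => inv_mul_cancel_left b a) (fun a _ => mul_inv_cancel_left b a)
      · simp only [hSA, Finset.mem_filter, Finset.mem_univ, true_and] at ha ⊢
        exact ⟨A.mul_mem hb ha.1, (hxt a ha.1).1 ha.2⟩
      · simp only [hSA, Finset.mem_filter, Finset.mem_univ, true_and] at ha ⊢
        have hm := A.mul_mem (A.inv_mem hb) ha.1
        refine ⟨hm, (hxt _ hm).2 ?_⟩
        rw [mul_inv_cancel_left]; exact ha.2
    have htot := Finset.card_filter_add_card_filter_not (s := SA) (fun a => a * x = x * a)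
    rw [cA] at htot
    rcases B.sq x hxQ with hx2 | hx2
    · rw [Finset.filter_congr (q := fun a => a * x = x * a) fun a ha => ?_]
      · omega
      · rw [expand a (by simpa [hSA] using ha)]
        split_ifs with h <;> simp [h, hx2, B.t1]
    · rw [Finset.filter_congr (q := fun a => ¬ a * x = x * a) fun a ha => ?_]
      · omega
      · rw [expand a (by simpa [hSA] using ha)]
        split_ifs with h <;> simp [h, hx2, B.t1, B.tt]
  have col : ∀ a ∈ SA, (O.filter fun x => x * a * (x * a) = 1).card = (O.filter fun x => x * x = 1).card := by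
    intro a ha
    have haA : a ∈ A := by simpa [hSA] using ha
    refine Finset.card_bij' (fun x _ => x * a) (fun x _ => x * a⁻¹) (fun x hx => ?_) (fun x hx => ?_)
      (fun x _ => mul_inv_cancel_right x a) (fun x _ => inv_mul_cancel_right x a)
    · simp only [Finset.mem_filter, memO] at hx ⊢
      exact ⟨⟨Q.mul_mem hx.1.1 (hA haA), fun h => hx.1.2 ((A.mul_mem_cancel_right haA).1 h)⟩, hx.2⟩
    · simp only [Finset.mem_filter, memO] at hx ⊢
      refine ⟨⟨Q.mul_mem hx.1.1 (Q.inv_mem (hA haA)), fun h => hx.1.2 ?_⟩, by rw [inv_mul_cancel_right]; exact hx.2⟩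
      exact (A.mul_mem_cancel_right (A.inv_mem haA)).1 h
  have hdc := Finset.sum_card_bipartiteAbove_eq_sum_card_bipartiteBelow (s := O) (t := SA)
    (fun x a => x * a * (x * a) = 1)
  simp only [Finset.bipartiteAbove, Finset.bipartiteBelow] at hdc
  rw [Finset.sum_congr rfl row, Finset.sum_congr rfl col, Finset.sum_const, Finset.sum_const, cO, cA,
    smul_eq_mul, smul_eq_mul] at hdc
  set I : Finset G := SQ.filter fun x => x * x = 1 ∧ x ≠ 1 ∧ x ≠ t with hI
  have hIc : I.card = 18 := by
    have hA6 : ((SA.erase 1).erase t).card = 6 := by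
      rw [Finset.card_erase_of_mem (by simp [hSA, htA, B.t1]), Finset.card_erase_of_mem (by simp [hSA, A.one_mem]), cA]
    have hIeq : I = (O.filter fun x => x * x = 1) ∪ (SA.erase 1).erase t := by
      ext x
      simp only [hI, hSQ, Finset.mem_filter, Finset.mem_univ, true_and, Finset.mem_union, memO,
        Finset.mem_erase, hSA]
      by_cases hxA : x ∈ A
      · simp [hxA, hA hxA, hA2 x hxA, and_comm]
      · simp only [hxA, not_false_iff, and_true, and_false, or_false]
        exact ⟨fun h => ⟨h.1, h.2.1⟩, fun h => ⟨h.1, h.2, fun e => hxA (e ▸ A.one_mem), fun e => hxA (e ▸ htA)⟩⟩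
    rw [hIeq, Finset.card_union_of_disjoint, hA6]
    · omega
    · rw [Finset.disjoint_left]
      intro x hx hx'
      simp only [Finset.mem_filter, memO] at hx
      simp only [Finset.mem_erase, hSA, Finset.mem_filter, Finset.mem_univ, true_and] at hx'
      exact hx.1.2 hx'.2.2
  have h5 := card_fixed_modEq hf5 (I : Set G) fun y hy => by
    simp only [hI, hSQ, Finset.mem_coe, Finset.mem_filter, Finset.mem_univ, true_and] at hy ⊢
    refine ⟨B.conj_Q hft hy.1, conj_sq f hy.2.1, conj_ne_one f hy.2.2.1, fun e => hy.2.2.2 ?_⟩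
    exact conj_inj' (a := f) (e.trans (by rw [hft, mul_inv_cancel_right]))
  have h0 : Nat.card {y : G // y ∈ (I : Set G) ∧ f * y = y * f} = 0 :=
    Nat.card_eq_zero.2 (Or.inl ⟨fun ⟨y, hy, hyf⟩ => by
      simp only [hI, hSQ, Finset.mem_coe, Finset.mem_filter, Finset.mem_univ, true_and] at hy
      rcases hfix y hy.1 hyf with e | e
      exacts [hy.2.2.1 e, hy.2.2.2 e]⟩)
  have e18 : Nat.card {y : G // y ∈ (I : Set G)} = 18 := by
    rw [← hIc, ← Nat.card_eq_finsetCard]; rfl
  rw [e18] at h5
  rw [h0] at h5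
  exact absurd h5 (by decide)

end Base

/-- The hypothesis gives the data. -/
theorem exists_base (t : G) (ht : orderOf t = 2)
    (E : Subgroup (Subgroup.centralizer ({t} : Set G))) [E.Normal] (hE : Nat.card E = 32)
    (hX : Cfsg.IsExtraspecial 2 E)
    (e : (Subgroup.centralizer ({t} : Set G)) ⧸ E ≃* alternatingGroup (Fin 5)) :
    ∃ φ : ↥(Subgroup.centralizer ({t} : Set G)) →* A5,
      Base t (E.map (Subgroup.centralizer ({t} : Set G)).subtype) φ := by
  classical
  obtain ⟨htt, ht1⟩ := orderOf_eq_two_iff'.1 ht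
  let φ : ↥(Subgroup.centralizer ({t} : Set G)) →* A5 := e.toMonoidHom.comp (QuotientGroup.mk' E)
  have hker : ∀ h, φ h = 1 ↔ h ∈ E := fun h => by
    show e (QuotientGroup.mk' E h) = 1 ↔ _
    rw [EmbeddingLike.map_eq_one_iff]
    exact QuotientGroup.eq_one_iff h
  have hsurj : Function.Surjective φ := e.surjective.comp (QuotientGroup.mk'_surjective E)
  set tt : ↥(Subgroup.centralizer ({t} : Set G)) := ⟨t, mem_cent.2 rfl⟩
  have htt' : ∀ q, q * tt = tt * q := fun q => Subtype.ext (mem_cent.1 q.2)
  have hne : tt ∈ E := by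
    rw [← hker]
    haveI : IsSimpleGroup A5 := alternatingGroup.isSimpleGroup (by simp)
    rcases IsSimpleGroup.eq_bot_or_eq_top_of_normal (Subgroup.center A5) inferInstance with h | h
    · refine Subgroup.mem_bot.1 (h ▸ Subgroup.mem_center_iff.2 fun g => ?_)
      obtain ⟨q, rfl⟩ := hsurj g
      rw [← map_mul, ← map_mul, htt' q]
    · exfalso
      have hc : ∀ a b : A5, a * b = b * a := fun a b => Subgroup.mem_center_iff.1 (h ▸ Subgroup.mem_top b) a
      obtain ⟨g, x, hgx⟩ : ∃ g x : A5, g * x ≠ x * g := by decide +kernel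
      exact hgx (hc g x)
  obtain ⟨⟨hP, hfr, hder⟩, hc2⟩ := hX
  have hzc : (⟨tt, hne⟩ : E) ∈ Subgroup.center E :=
    Subgroup.mem_center_iff.2 fun q => Subtype.ext (htt' q.1)
  obtain ⟨w, hw1, huniq⟩ := (Nat.card_eq_two_iff' (1 : Subgroup.center E)).1 hc2
  have hall : ∀ z : Subgroup.center E, ((z.1.1 : ↥(Subgroup.centralizer ({t} : Set G))) : G) = 1 ∨
      ((z.1.1 : ↥(Subgroup.centralizer ({t} : Set G))) : G) = t := fun z => by
    by_cases h1 : z = 1
    · left; rw [h1]; rfl
    · right
      have e2 := huniq ⟨_, hzc⟩ fun h => ht1 (congrArg (fun w : Subgroup.center E => (w.1.1 : G)) h)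
      exact congrArg (fun w : Subgroup.center E => (w.1.1 : G)) ((huniq _ h1).trans e2.symm)
  refine ⟨φ, ⟨htt, ht1, Subgroup.map_subtype_le _, ?_, ⟨tt, hne, rfl⟩, ?_, ?_, ?_, hsurj, fun h => ?_⟩⟩
  · rw [Subgroup.card_map_of_injective (Subgroup.centralizer ({t} : Set G)).subtype_injective, hE]
  · rintro _ ⟨x, hx, rfl⟩ hcomm
    exact hall ⟨⟨x, hx⟩, Subgroup.mem_center_iff.2 fun q =>
      Subtype.ext (Subtype.ext (hcomm _ ⟨q.1, q.2, rfl⟩).symm)⟩
  · rintro _ ⟨x, hx, rfl⟩ _ ⟨y, hy, rfl⟩
    have hxy : ((x : ↥(Subgroup.centralizer ({t} : Set G))) : G) * (y : G) =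
        (y : G) * x * ((⁅(⟨x, hx⟩ : E)⁻¹, (⟨y, hy⟩ : E)⁻¹⁆).1 : G) := by
      simp only [commutatorElement_def, Subgroup.coe_mul, InvMemClass.coe_inv]; group
    have hmem' : (⁅(⟨x, hx⟩ : E)⁻¹, (⟨y, hy⟩ : E)⁻¹⁆) ∈ Subgroup.center E := by
      rw [← hder]; exact Subgroup.commutator_mem_commutator (Subgroup.mem_top _) (Subgroup.mem_top _)
    simp only [Subgroup.coe_subtype]
    rcases hall ⟨_, hmem'⟩ with h | h <;> simp only at h <;> rw [h] at hxy
    · exact Or.inl (by rw [hxy, mul_one])
    · exact Or.inr hxy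
  · rintro _ ⟨x, hx, rfl⟩
    have hsq : (⟨x, hx⟩ : E) * ⟨x, hx⟩ ∈ Subgroup.center E := by
      rw [← hfr, ← pow_two]; exact PGroupBasics.pow_mem_frattini hP _
    exact hall ⟨_, hsq⟩
  · rw [hker]; exact ⟨fun hq => ⟨h, hq, rfl⟩, fun ⟨q, hq, e⟩ => by rwa [← Subtype.ext e]⟩

/-- Either the order of the Hall–Janko group, or one class of involutions. -/
theorem isJ2_or_one_class [IsSimpleGroup G] (t : G) (ht : orderOf t = 2)
    (E : Subgroup (Subgroup.centralizer ({t} : Set G))) [E.Normal] (hE : Nat.card E = 32)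
    (hX : Cfsg.IsExtraspecial 2 E)
    (e : (Subgroup.centralizer ({t} : Set G)) ⧸ E ≃* alternatingGroup (Fin 5)) :
    Cfsg.IsJ2 G ∨ ∀ x y : G, orderOf x = 2 → orderOf y = 2 → IsConj x y := by
  classical
  refine (em (∃ x y : G, orderOf x = 2 ∧ orderOf y = 2 ∧ ¬ IsConj x y)).imp (fun htwo => ?_) fun h x y hx hy => ?_
  swap
  · by_contra hxy
    exact h ⟨x, y, hx, hy, hxy⟩
  obtain ⟨φ, B⟩ := exists_base t ht E hE hX e
  have h2c : Subgroup.centralizer (E : Set (Subgroup.centralizer ({t} : Set G))) ≤ E := fun h hh => by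
    have hmem := B.self h (mem_cent.1 h.2) (by
      rintro _ ⟨q, hq, rfl⟩
      exact (congrArg Subtype.val (Subgroup.mem_centralizer_iff.1 hh q hq)).symm)
    obtain ⟨q, hq, he⟩ := hmem
    rwa [← Subtype.ext he]
  obtain ⟨ψ, S⟩ := exists_setup' t ht E hX hE (fun A hA => by
    have h := B.minus ((A.map E.subtype).map (Subgroup.centralizer ({t} : Set G)).subtype)
      (Subgroup.map_mono (Subgroup.map_subtype_le _)) (by
        rintro _ ⟨_, ⟨a, ha, rfl⟩, rfl⟩
        have := hA.2 a ha
        rw [pow_two] at this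
        exact congrArg (fun z : E => (z.1 : G)) this)
    rwa [Subgroup.card_map_of_injective (Subgroup.centralizer ({t} : Set G)).subtype_injective,
      Subgroup.card_map_of_injective E.subtype_injective] at h) h2c e htwo
  obtain ⟨_, _, _, _, _, _, -, -, -, -, hcard⟩ := S.exists_main
  exact ⟨inferInstance, hcard⟩

end Cfsg.Agent.HJUniq
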