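import Cfsg.Agent.Lib.HJUniq.Config

/-!
The relators of both configurations hold in every group of Hall–Janko type.
-/

set_option autoImplicit false
set_option linter.style.haveILetI false
set_option maxRecDepth 20000
set_option synthInstance.maxSize 4000
set_option synthInstance.maxHeartbeats 400000

namespace Cfsg.Agent.HJUniq

open Cfsg.Agent.HJ Cfsg.Agent.CosetCert

/-- The conditions on the conjugate of the product of two noncommuting involutions. -/
def rTest (w : List ℕ) : Bool :=
  sameWord codesA (expand (w ++ w ++ [3])) [] &&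
    (sameWord codesA (expand ([0] ++ w ++ [0])) (expand (w ++ [3])) &&
      sameWord codesA (expand (w ++ ([1, 2, 0, 1] ++ w ++ [1, 0, 2, 1]) ++
        ([1, 2, 0, 1, 1, 2, 0, 1] ++ w ++ [1, 0, 2, 1, 1, 0, 2, 1]))) [])

theorem okA_qWords : (qWords.all okA) = true := by decide +kernel

theorem qWords_rho : (qWords.all fun w => decide (wprod rho (expand w) = 1)) = true := by decide +kernel

theorem qWords_comm : (qWords.all fun w => sameWord codesA (expand (w ++ [3])) (expand ([3] ++ w))) = true := by
  decide +kernel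

theorem qWords_pairwise : (qWords.all fun v => qWords.all fun w => decide (v = w) ||
    !sameWord codesA (expand v) (expand w)) = true := by decide +kernel

theorem rTest_unique : (stWords.all fun t => qWords.all fun w => okA (t ++ w) && (!rTest (t ++ w) ||
    sameWord codesA (expand (t ++ w)) (expand [8, 7, 9]))) = true := by decide +kernel

/-- The relators special to the component and the centraliser. -/
def mixed : List (List ℕ) := [[4, 5, 8, 9, 5, 4, 9, 7, 8], [0, 4, 0, 4], [0, 5, 0, 5], [7, 4, 7, 4],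
  [7, 5, 7, 5], [1, 2, 0, 1, 4, 1, 0, 2, 1, 4], [1, 2, 0, 1, 5, 1, 0, 2, 1, 5]]

/-- The classification of a relator. -/
def classify (last w : List ℕ) : Bool :=
  (okA w && sameWord codesA (expand w) []) || (okB w && decide (wprod rhoK w = 1)) ||
    mixed.contains w || (w == last)

/-- The last relator of the first configuration. -/
def lastA : List ℕ := [1, 2, 6, 4, 3, 4, 2, 1, 4, 3, 4, 6]

/-- The last relator of the second configuration. -/
def lastB : List ℕ := [1, 2, 4, 5, 4, 6, 2, 1, 6, 4, 5, 4]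

theorem classifyA : (CosetData.HJGA.base.all fun w => classify lastA w) = true := by decide +kernel

theorem classifyB : (CosetData.HJGB.base.all fun w => classify lastB w) = true := by decide +kernel

variable {G : Type*} [Group G] [Finite G] {z : G} {Q : Subgroup G}
  {φ : ↥(Subgroup.centralizer ({z} : Set G)) →* A5}
  {u a x s f : G} {K V : Subgroup G} {ι κ : A5 →* G}

namespace Cfg

variable (c : Cfg z Q φ u a x s K V f ι κ)
include c

omit [Finite G] in
theorem expand_inQ {w : List ℕ} (hw : (w.all fun x => Nat.blt x 4) = true) :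
    (ι (wprod rho w))⁻¹ * wprod (gens ι κ u) w ∈ Q := by
  induction w with
  | nil => simp [wprod, Q.one_mem]
  | cons y w ih =>
    rw [List.all_cons, Bool.and_eq_true, Nat.blt_eq] at hw
    have h1 : (ι (rho y))⁻¹ * gens ι κ u y ∈ Q := by
      have h := hw.1
      interval_cases y
      all_goals first
        | (show (ι s0)⁻¹ * ι s0 ∈ Q; rw [inv_mul_cancel]; exact Q.one_mem)
        | (show (ι p0)⁻¹ * ι p0 ∈ Q; rw [inv_mul_cancel]; exact Q.one_mem)
        | (show (ι r0)⁻¹ * ι r0 ∈ Q; rw [inv_mul_cancel]; exact Q.one_mem)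
        | (show (ι 1)⁻¹ * u ∈ Q; rw [map_one, inv_one, one_mul]; exact c.C.L.hu.1)
    have h2 : (ι (wprod rho w))⁻¹ * ((ι (rho y))⁻¹ * gens ι κ u y) * (ι (wprod rho w))⁻¹⁻¹ ∈ Q :=
      c.C.S.conj_mem_Q (c.C.S.H_inv (c.L.cz _)) h1
    rw [wprod_cons, wprod_cons, map_mul]
    convert Q.mul_mem h2 (ih hw.2) using 1
    group

theorem qWords_mem {w : List ℕ} (hw : w ∈ qWords) :
    wprod (gens ι κ u) w ∈ Q ∧ wprod (gens ι κ u) w * u = u * wprod (gens ι κ u) w := by
  have hok := List.all_eq_true.1 okA_qWords w hw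
  constructor
  · have h := c.expand_inQ (expand_lt hok)
    rwa [of_decide_eq_true (List.all_eq_true.1 qWords_rho w hw), map_one, inv_one, one_mul,
      wprod_expand c.hwords hok] at h
  · have e := (c.word_iff (v := w ++ [3]) (w := [3] ++ w) (by simp [okA] at hok ⊢; exact hok)
      (by simp [okA] at hok ⊢; exact hok)).2 (List.all_eq_true.1 qWords_comm w hw)
    simpa [wprod_append, wprod_cons, wprod_nil, gens] using e

/-- Every element of the normal subgroup commuting with `u` is one of the sixteen. -/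
theorem exists_qWord {q : G} (hq : q ∈ Q) (hqu : q * u = u * q) :
    ∃ w ∈ qWords, q = wprod (gens ι κ u) w := by
  classical
  haveI := Fintype.ofFinite G
  set T : Finset G := Finset.univ.filter fun g => g ∈ Q ⊓ Subgroup.centralizer ({u} : Set G) with hT
  have hTc : T.card = 16 := by
    rw [hT, ← Fintype.card_subtype, ← Nat.card_eq_fintype_card]
    exact c.C.S.card_cent c.C.L.hu.1 c.C.L.hu.2.2.1 c.C.L.hu.2.2.2
  set I : Finset G := qWords.toFinset.image (wprod (gens ι κ u)) with hI
  have hsub : I ⊆ T := by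
    intro g hg
    simp only [hI, Finset.mem_image, List.mem_toFinset] at hg
    obtain ⟨w, hw, rfl⟩ := hg
    obtain ⟨h1, h2⟩ := c.qWords_mem hw
    simp [hT, Subgroup.mem_inf, HJ.mem_cent, h1, h2]
  have hIc : I.card = 16 := by
    rw [hI, Finset.card_image_of_injOn]
    · decide +kernel
    · intro v hv w hw e
      simp only [Finset.mem_coe, List.mem_toFinset] at hv hw
      by_contra hne
      have h := List.all_eq_true.1 (List.all_eq_true.1 qWords_pairwise v hv) w hw
      rw [(c.word_iff (List.all_eq_true.1 okA_qWords v hv) (List.all_eq_true.1 okA_qWords w hw)).1 e,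
        Bool.or_eq_true, decide_eq_true_eq] at h
      exact h.elim hne (by simp)
  have hmem : q ∈ I := by
    rw [Finset.eq_of_subset_of_card_le hsub (by omega)]
    simp [hT, Subgroup.mem_inf, HJ.mem_cent, hq, hqu]
  simp only [hI, Finset.mem_image, List.mem_toFinset] at hmem
  obtain ⟨w, hw, rfl⟩ := hmem
  exact ⟨w, hw, rfl⟩

/-- The element of order three moves the product of two of the involutions to another one. -/
theorem conj_pair :
    a * wprod (gens ι κ u) [8, 9] * a⁻¹ = wprod (gens ι κ u) [8, 7, 9] := by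
  obtain ⟨q, hqdef⟩ : ∃ q, q = wprod (gens ι κ u) [8, 9] := ⟨_, rfl⟩
  have hqz : q * q = z := by
    rw [← c.κs, show κ s0 = wprod (gens ι κ u) [6] by simp [wprod, gens], hqdef, ← wprod_append]
    exact c.wordA (by decide +kernel)
  have hqu : q * u = u * q := by
    rw [show u = wprod (gens ι κ u) [3] by simp [wprod, gens], hqdef, ← wprod_append, ← wprod_append]
    exact c.wordA (by decide +kernel)
  have hss : gens ι κ u 0 = s := c.L.is
  have hx1 : wprod (gens ι κ u) [1, 2, 0, 1] = x := by
    rw [small_iota (by decide), show wprod rho [1, 2, 0, 1] = x0 by decide +kernel, c.L.ix]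
  have hx1' : wprod (gens ι κ u) [1, 0, 2, 1] = x⁻¹ := by
    rw [small_iota (by decide), show wprod rho [1, 0, 2, 1] = x0⁻¹ by decide +kernel, map_inv, c.L.ix]
  have hs : s * q * s = q * z := by
    rw [← c.κs, show κ s0 = wprod (gens ι κ u) [6] by simp [wprod, gens],
      show s = wprod (gens ι κ u) [0] by simp [wprod_cons, wprod_nil, hss], hqdef,
      ← wprod_append, ← wprod_append, ← wprod_append]
    exact c.wordA (by decide +kernel)
  have hp : q * (x * q * x⁻¹) * (x * x * q * (x⁻¹ * x⁻¹)) = 1 := by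
    rw [← hx1', ← hx1, hqdef]
    simp only [← wprod_append]
    exact (c.wordA (w := []) (by decide +kernel)).trans (by simp [wprod])
  set r := a * q * a⁻¹ with hr
  have r1 : r * r * u = 1 := by
    rw [hr, ← conj_mul', hqz, c.C.L.az, c.C.L.hu.2.1]
  have r2 : s * r * s = r * u := by
    calc s * r * s = (s * a) * q * (a⁻¹ * s) := by rw [hr]; group
      _ = (a * s) * q * (s * a⁻¹) := by
        rw [c.C.L.sa, (Commute.inv_left (show Commute a s from c.C.L.sa.symm)).eq]
      _ = a * (s * q * s) * a⁻¹ := by group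
      _ = r * u := by rw [hs, conj_mul', c.C.L.az]
  have cx : Commute x a := c.C.L.xa
  have r3 : r * (x * r * x⁻¹) * (x * x * r * (x⁻¹ * x⁻¹)) = 1 := by
    have e1 : x * r * x⁻¹ = a * (x * q * x⁻¹) * a⁻¹ := by
      calc x * r * x⁻¹ = (x * a) * q * (a⁻¹ * x⁻¹) := by rw [hr]; group
        _ = (a * x) * q * (x⁻¹ * a⁻¹) := by rw [cx.eq, (cx.inv_inv).eq]
        _ = _ := by group
    have e2 : x * x * r * (x⁻¹ * x⁻¹) = a * (x * x * q * (x⁻¹ * x⁻¹)) * a⁻¹ := by
      have c2 : Commute (x * x) a := cx.mul_left cx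
      calc x * x * r * (x⁻¹ * x⁻¹) = (x * x * a) * q * (a⁻¹ * (x * x)⁻¹) := by rw [hr]; group
        _ = (a * (x * x)) * q * ((x * x)⁻¹ * a⁻¹) := by rw [c2.eq, (c2.inv_inv).eq]
        _ = _ := by group
    rw [e1, e2, hr, ← conj_mul', ← conj_mul', hp]; group
  have hqz' : q * z = z * q := by rw [← hqz, mul_assoc]
  have ru : r * u = u * r := by
    rw [← c.C.L.az]; exact HJ.conj_comm a hqz'
  have rz : r * z = z * r := by
    have h : r * (u * z) = u * z * r := by rw [← c.C.L.au]; exact HJ.conj_comm a hqu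
    have h2 : Commute r (u * (u * z)) := Commute.mul_right ru h
    rwa [← mul_assoc, c.C.L.hu.2.1, one_mul] at h2
  obtain ⟨τ, hτQ, hτ4⟩ := c.L.cover r rz
  obtain ⟨t, ht, rfl⟩ := rho_stab τ (hτ4 ru)
  have ht3 := List.all_eq_true.1 stWords_lt t ht
  have hiu : ι (wprod rho t) * u = u * ι (wprod rho t) := c.L.fix _ (hτ4 ru)
  obtain ⟨w, hw, hwq⟩ := c.exists_qWord hτQ
    (Setup.comm_mul (Commute.inv_left hiu) ru)
  have er : r = wprod (gens ι κ u) (t ++ w) := by
    rw [wprod_append, small_iota ht3, ← hwq, mul_inv_cancel_left]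
  have h := List.all_eq_true.1 (List.all_eq_true.1 rTest_unique t ht) w hw
  rw [Bool.and_eq_true, Bool.or_eq_true] at h
  obtain ⟨hok, h⟩ := h
  have hcat : ∀ {l1 l2 : List ℕ}, okA l1 = true → okA l2 = true → okA (l1 ++ l2) = true := fun h1 h2 => by
    simp only [okA, List.all_append, Bool.and_eq_true] at *
    exact ⟨h1, h2⟩
  obtain ⟨tw, htw⟩ : ∃ tw, tw = t ++ w := ⟨_, rfl⟩
  rw [← htw] at er hok h
  have hT : rTest tw = true := by
    have hu3 : gens ι κ u 3 = u := rfl
    rw [rTest, Bool.and_eq_true, Bool.and_eq_true]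
    refine ⟨?_, ?_, ?_⟩
    · refine (c.word_iff (hcat (hcat hok hok) rfl) (w := []) rfl).1 ?_
      rw [wprod_append, wprod_append, ← er, wprod_cons, wprod_nil, mul_one, hu3, r1]
    · refine (c.word_iff (hcat (hcat rfl hok) rfl) (hcat hok rfl)).1 ?_
      rw [wprod_append, wprod_append, wprod_append, ← er]
      simp only [wprod_cons, wprod_nil, mul_one, hu3, hss, r2]
    · refine (c.word_iff (hcat (hcat hok (hcat (hcat rfl hok) rfl)) (hcat (hcat rfl hok) rfl)) (w := []) rfl).1 ?_
      rw [show ([1, 2, 0, 1, 1, 2, 0, 1] : List ℕ) = [1, 2, 0, 1] ++ [1, 2, 0, 1] from rfl,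
        show ([1, 0, 2, 1, 1, 0, 2, 1] : List ℕ) = [1, 0, 2, 1] ++ [1, 0, 2, 1] from rfl]
      simp only [wprod_append, ← er, hx1, hx1', wprod_nil]
      exact r3
  rw [hT] at h
  rw [← hqdef]
  show r = _
  rw [er]
  exact (c.word_iff hok rfl).2 (h.resolve_left (by simp))

end Cfg

end Cfsg.Agent.HJUniq
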