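import Cfsg.Agent.Lib.HJUniq.Model
import Cfsg.Agent.Lib.J2.Rank3

/-!
From involutions satisfying the relators to an isomorphism with the model.
-/

set_option autoImplicit false
set_option maxRecDepth 20000

namespace Cfsg.Agent.HJUniq

open Cfsg.Agent.CosetCert
open Cfsg.Agent.CosetData

variable {G : Type*} [Group G]

/-- The relations of the complement and of the centraliser of an involution. -/
structure RelH (f : ℕ → G) : Prop where
  invol : ∀ x, f x * f x = 1
  a5 : ∀ w ∈ HJA.base, wprod f w = 1
  h : ∀ w ∈ HJH.base, wprod f w = 1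

theorem cardLe_zero {f : ℕ → G} (R : RelH f) :
    CardLe (Subgroup.closure (pairGen f (permOf codesA) '' {x | x < 3})) (60 * 1) :=
  cardLe_of_cert (P := HJA.P) (base := HJA.base) (sw := HJA.sw) (gen := pairGen f (permOf codesA))
    (pair_invol R.invol involA) (fun w hw => pair_base (R.a5 w hw) (baseA5 w hw)) HJA.rots_ok
    (H := ⊥) (fun w hw => by
      simp only [HJA.sw, List.mem_singleton] at hw
      subst hw
      rw [Subgroup.mem_bot, wprod_pair]
      simp only [wprod_cons, wprod_nil, mul_one, R.invol, involA]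
      rfl)
    (by decide +kernel) HJA.cert_ok HJA.tab_ok cardLe_bot

theorem cardLe_one {f : ℕ → G} (R : RelH f) :
    CardLe (Subgroup.closure (pairGen f (permOf codesA) '' {x | x < 4})) 1920 :=
  cardLe_of_cert (P := HJH.P) (base := HJH.base) (sw := HJH.sw) (gen := pairGen f (permOf codesA))
    (pair_invol R.invol involA) (fun w hw => pair_base (R.h w hw) (baseH w hw)) HJH.rots_ok
    (H := Subgroup.closure (pairGen f (permOf codesA) '' {x | x < 3}))
    (fun w hw => by
      simp only [HJH.sw, List.mem_cons, List.not_mem_nil, or_false] at hw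
      rcases hw with rfl | rfl | rfl <;>
        (rw [wprod_cons, wprod_nil, mul_one]; exact Subgroup.subset_closure ⟨_, by simp, rfl⟩))
    (by decide +kernel) HJH.cert_ok HJH.tab_ok (cardLe_zero R)

theorem exists_homH {f : ℕ → G} (R : RelH f) :
    ∃ φ : MH →* G, ∀ x, x < 4 → ∀ hx : permOf codesA x ∈ MH, φ ⟨permOf codesA x, hx⟩ = f x :=
  exists_hom rfl card_MH (cardLe_one R)

/-- Words in the first four generators lie in the model. -/
theorem wprod_mem_MH {w : List ℕ} (hw : (w.all fun x => Nat.blt x 4) = true) :
    wprod (permOf codesA) w ∈ MH := by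
  induction w with
  | nil => exact one_mem _
  | cons x w ih =>
    rw [List.all_cons, Bool.and_eq_true, Nat.blt_eq] at hw
    rw [wprod_cons]
    exact MH.mul_mem (Subgroup.subset_closure ⟨x, hw.1, rfl⟩) (ih hw.2)

theorem hom_wprod {f : ℕ → G} {φ : MH →* G}
    (hφ : ∀ x, x < 4 → ∀ hx : permOf codesA x ∈ MH, φ ⟨permOf codesA x, hx⟩ = f x)
    {w : List ℕ} (hw : (w.all fun x => Nat.blt x 4) = true) :
    φ ⟨wprod (permOf codesA) w, wprod_mem_MH hw⟩ = wprod f w := by
  induction w with
  | nil => exact map_one φ
  | cons x w ih =>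
    have hw' := hw
    rw [List.all_cons, Bool.and_eq_true, Nat.blt_eq] at hw'
    have hx : permOf codesA x ∈ MH := Subgroup.subset_closure ⟨x, hw'.1, rfl⟩
    rw [show wprod f (x :: w) = f x * wprod f w from wprod_cons _ x w, ← ih hw'.2, ← hφ x hw'.1 hx,
      ← map_mul]
    exact congrArg φ (Subtype.ext (wprod_cons _ x w))

/-- The auxiliary generators are the given words. -/
def HWords {A : Type*} [Group A] (f : ℕ → A) : Prop :=
  ∀ i, i < 4 → f (6 + i) = wprod f (hWords.getD i [])

theorem hwordsA : HWords (permOf codesA) := by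
  intro i hi
  have h : ((List.range 4).all fun i => sameWord codesA [6 + i] (hWords.getD i [])) = true := by
    decide +kernel
  simpa [wprod] using eq_of_sameWord validA (List.all_eq_true.1 h i (List.mem_range.2 hi))

theorem hwordsB : HWords (permOf codesB) := by
  intro i hi
  have h : ((List.range 4).all fun i => sameWord codesB [6 + i] (hWords.getD i [])) = true := by
    decide +kernel
  simpa [wprod] using eq_of_sameWord validB (List.all_eq_true.1 h i (List.mem_range.2 hi))

theorem same_four : ∀ x, x < 4 → permOf codesB x = permOf codesA x := by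
  intro x hx
  have h : ((List.range 4).all fun x => decide (codesB.getD x (0, 0) = codesA.getD x (0, 0))) = true := by
    decide +kernel
  have e := of_decide_eq_true (List.all_eq_true.1 h x (List.mem_range.2 hx))
  have hA : x < codesA.length := by
    have : codesA.length = 10 := rfl
    omega
  have hB : x < codesB.length := by
    have : codesB.length = 10 := rfl
    omega
  rw [List.getD_eq_getElem _ _ hA, List.getD_eq_getElem _ _ hB] at e
  rw [permOf, permOf, List.getD_eq_getElem _ _ hA, List.getD_eq_getElem _ _ hB, e]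

theorem hWords_lt : (hWords.all fun w => w.all fun x => Nat.blt x 4) = true := by decide +kernel

theorem mem_of_word {A : Type*} [Group A] {f : ℕ → A} {S : Subgroup A}
    (hS : ∀ x, x < 4 → f x ∈ S) {w : List ℕ} (hw : (w.all fun x => Nat.blt x 4) = true) :
    wprod f w ∈ S := by
  induction w with
  | nil => exact one_mem _
  | cons x w ih =>
    rw [List.all_cons, Bool.and_eq_true, Nat.blt_eq] at hw
    rw [wprod_cons]
    exact S.mul_mem (hS x hw.1) (ih hw.2)

/-- The relators of one configuration give an isomorphism with the model. -/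
theorem nonempty_iso_aux [Finite G] (hG : Nat.card G = 604800) {f : ℕ → G} (R : RelH f)
    (hf : HWords f) (h0 : f 0 ≠ 1) {g : ℕ → Equiv.Perm (Fin 100)} (hg : ∀ x, g x * g x = 1)
    (hgW : HWords g) (h4 : ∀ x, x < 4 → g x = permOf codesA x)
    (htop : Subgroup.closure (g '' {x | x < 10}) = J2.G100)
    {P : Params} (hk : P.k = 10) {base : List (List ℕ)} (hbf : ∀ w ∈ base, wprod f w = 1)
    (hbg : ∀ w ∈ base, wprod g w = 1) {hints : List (ℕ × ℕ × Bool)}
    (hrots : rotsOK base P.rots.entries hints = true) {sw : List (List ℕ)}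
    (hsw : sw = [[0], [1], [2], [3], [6], [7], [8], [9]])
    (hsubs : (P.subs.all fun w => sw.any fun u => wordEq w u || wordEq w.reverse u) = true)
    {tree : List ℕ} {phases : List Phase} (hcert : checkCert P 315 tree phases = true)
    (htab : tableOK P 315 = true) : Nonempty (J2.G100 ≃* G) := by
  set S := Subgroup.closure (pairGen f (permOf codesA) '' {x | x < 4}) with hS
  have hpair : ∀ x, x < 4 → pairGen f g x ∈ S := fun x hx =>
    Subgroup.subset_closure ⟨x, hx, by rw [pairGen, pairGen, h4 x hx]⟩
  have haux : ∀ i, i < 4 → pairGen f g (6 + i) ∈ S := by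
    intro i hi
    have e : pairGen f g (6 + i) = wprod (pairGen f g) (hWords.getD i []) := by
      rw [wprod_pair, ← hf i hi, ← hgW i hi]; rfl
    rw [e]
    refine mem_of_word hpair ?_
    have hl : i < hWords.length := by
      have : hWords.length = 4 := rfl
      omega
    rw [List.getD_eq_getElem _ _ hl]
    exact List.all_eq_true.1 hWords_lt _ (List.getElem_mem hl)
  have hc := cardLe_of_cert (P := P) (base := base) (sw := sw) (gen := pairGen f g)
    (pair_invol R.invol hg) (fun w hw => pair_base (hbf w hw) (hbg w hw)) hrots (H := S)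
    (fun w hw => by
      subst hsw
      simp only [List.mem_cons, List.not_mem_nil, or_false] at hw
      rcases hw with rfl | rfl | rfl | rfl | rfl | rfl | rfl | rfl <;>
        rw [wprod_cons, wprod_nil, mul_one]
      exacts [hpair 0 (by norm_num), hpair 1 (by norm_num), hpair 2 (by norm_num), hpair 3 (by norm_num),
        haux 0 (by norm_num), haux 1 (by norm_num), haux 2 (by norm_num), haux 3 (by norm_num)])
    hsubs hcert htab (cardLe_one R)
  rw [hk] at hc
  obtain ⟨φ, hφ⟩ := exists_hom (T := J2.G100) htop J2.card_G100 hc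
  haveI : IsSimpleGroup J2.G100 := J2.isSimple_P100
  haveI : Finite J2.G100 := inferInstance
  have hmem : g 0 ∈ J2.G100 := htop ▸ Subgroup.subset_closure ⟨0, by simp, rfl⟩
  have hinj : Function.Injective φ := by
    rw [← MonoidHom.ker_eq_bot_iff]
    refine (IsSimpleGroup.eq_bot_or_eq_top_of_normal _ (MonoidHom.normal_ker φ)).resolve_right fun h => ?_
    apply h0
    have : (⟨g 0, hmem⟩ : J2.G100) ∈ φ.ker := h ▸ Subgroup.mem_top _
    rw [MonoidHom.mem_ker, hφ 0 (by norm_num)] at this
    exact this
  exact ⟨MulEquiv.ofBijective φ ((Nat.bijective_iff_injective_and_card φ).2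
    ⟨hinj, by rw [J2.card_G100, hG]⟩)⟩

theorem nonempty_isoA [Finite G] (hG : Nat.card G = 604800) {f : ℕ → G} (R : RelH f)
    (hf : HWords f) (h0 : f 0 ≠ 1) (hb : ∀ w ∈ HJGA.base, wprod f w = 1) :
    Nonempty (J2.G100 ≃* G) :=
  nonempty_iso_aux hG R hf h0 involA hwordsA (fun _ _ => rfl) topA (P := HJGA.P) rfl hb baseGA
    HJGA.rots_ok (sw := HJGA.sw) rfl (by decide +kernel) HJGA.cert_ok HJGA.tab_ok

theorem nonempty_isoB [Finite G] (hG : Nat.card G = 604800) {f : ℕ → G} (R : RelH f)
    (hf : HWords f) (h0 : f 0 ≠ 1) (hb : ∀ w ∈ HJGB.base, wprod f w = 1) :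
    Nonempty (J2.G100 ≃* G) :=
  nonempty_iso_aux hG R hf h0 involB hwordsB same_four topB (P := HJGB.P) rfl hb baseGB
    HJGB.rots_ok (sw := HJGB.sw) rfl (by decide +kernel) HJGB.cert_ok HJGB.tab_ok

end Cfsg.Agent.HJUniq
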