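import Cfsg.Agent.Lib.HJ.Wrap
import Cfsg.Agent.Lib.BrauerSuzuki.ZStar

/-!
In a simple group of Hall–Janko type the central involution is not weakly closed in the normal 2-subgroup of
its centraliser.
-/

set_option autoImplicit false
set_option linter.style.haveILetI false
set_option synthInstance.maxSize 4000
set_option synthInstance.maxHeartbeats 400000

namespace Cfsg.Agent.HJUniq

open Cfsg.Agent.HJ

theorem pow_four_sq : ∀ σ : A5, σ ^ 4 = 1 → σ * σ = 1 := by decide +kernel

universe u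

variable {G : Type u} [Group G] [Finite G] {z : G} {Q : Subgroup G}
  (φ : ↥(Subgroup.centralizer ({z} : Set G)) →* A5)

/-- A conjugate of the central involution lies in the normal subgroup. -/
theorem exists_conj_inQ (hzz : z * z = 1) (hzQ : z ∈ Q) (hcard : Nat.card Q = 32)
    (hle : Q ≤ Subgroup.centralizer ({z} : Set G))
    (hsq : ∀ x ∈ Q, x * x = 1 ∨ x * x = z) (hsurj : Function.Surjective φ)
    (hker : ∀ h, φ h = 1 ↔ (h : G) ∈ Q)
    (hel : ∀ A : Subgroup G, A ≤ Q → (∀ a ∈ A, a * a = 1) → Nat.card A ≤ 4)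
    (hni : ∃ g : G, g * z * g⁻¹ * z = z * (g * z * g⁻¹) ∧ g * z * g⁻¹ ≠ z) :
    ∃ g : G, g * z * g⁻¹ ∈ Q ∧ g * z * g⁻¹ ≠ z := by
  classical
  haveI := Fintype.ofFinite G
  by_contra hcon
  push Not at hcon
  have cQ : ∀ {h x : G}, h * z = z * h → x ∈ Q → h * x * h⁻¹ ∈ Q := fun {h x} hh hx => by
    have := (hker (⟨h, mem_cent.2 hh⟩ * ⟨x, hle hx⟩ * ⟨h, mem_cent.2 hh⟩⁻¹)).1 (by
      rw [map_mul, map_mul, map_inv, (hker ⟨x, hle hx⟩).2 hx, mul_one, mul_inv_cancel])
    exact this
  have main : ∀ g t : G, g * z * g⁻¹ = t → t * z = z * t → t ∉ Q →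
      (∃ v ∈ Q, v * t = t * v ∧ v * v = 1 ∧ v ≠ 1 ∧ v ≠ z) ∧
      ∀ y, t * y ∈ Q → y * y = 1 → ∃ q ∈ Q, q * t * q⁻¹ = y := by
    intro g t hgt htz htQ
    have htt : t * t = 1 := hgt ▸ conj_sq g hzz
    have ht' : t⁻¹ = t := inv_of_sq htt
    set A := Q ⊓ Subgroup.centralizer ({t} : Set G) with hA
    have hA2 : ∀ q ∈ A, q * q = 1 := by
      rintro q ⟨hq, hqt⟩
      refine (hsq q hq).resolve_right fun e => htQ ?_
      have hqt' : q * t = t * q := mem_cent.1 hqt
      have hp : g⁻¹ * q * g * z = z * (g⁻¹ * q * g) := by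
        rw [← hgt] at hqt'
        calc g⁻¹ * q * g * z = g⁻¹ * (q * (g * z * g⁻¹)) * g := by group
          _ = g⁻¹ * (g * z * g⁻¹ * q) * g := by rw [hqt']
          _ = _ := by group
      set p : Subgroup.centralizer ({z} : Set G) := ⟨g⁻¹ * q * g, mem_cent.2 hp⟩
      have e2 : ((p * p : Subgroup.centralizer ({z} : Set G)) : G) = g⁻¹ * z * g := by
        show g⁻¹ * q * g * (g⁻¹ * q * g) = _
        rw [← e]; group
      have h4 : φ p ^ 4 = 1 := by
        rw [← map_pow, show p ^ 4 = 1 from Subtype.ext (by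
          rw [show p ^ 4 = p * p * (p * p) by simp only [pow_succ, pow_zero, one_mul, mul_assoc]]
          show ((p * p : Subgroup.centralizer ({z} : Set G)) : G) * ((p * p : Subgroup.centralizer ({z} : Set G)) : G) = 1
          rw [e2]
          calc g⁻¹ * z * g * (g⁻¹ * z * g) = g⁻¹ * (z * z) * g := by group
            _ = 1 := by rw [hzz]; group), map_one]
      have h2 : φ (p * p) = 1 := by rw [map_mul]; exact pow_four_sq _ h4
      have h3 := (hker _).1 h2
      rw [e2] at h3
      have h5 := hcon g⁻¹ (by rwa [inv_inv])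
      rw [inv_inv] at h5
      have : t = z := by
        rw [← hgt]
        conv_lhs => rw [← h5]
        group
      rw [this]; exact hzQ
    have hA4 := hel A inf_le_left hA2
    set W : Finset G := Finset.univ.filter fun q => q ∈ Q ∧ (t * q * t = q ∨ t * q * t = z * q) with hW
    have hW8 : W.card ≤ 2 * Nat.card A := by
      have hAc : Nat.card A = (Finset.univ.filter fun w => w ∈ A).card := by
        rw [Nat.card_eq_fintype_card, Fintype.card_subtype]
      have hmemA : ∀ q ∈ Q, t * q * t = q → q ∈ A := fun q hq e => ⟨hq, mem_cent.2 (by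
        calc q * t = t * q * t * t := by rw [e]
          _ = t * q := by rw [mul_assoc (t * q), htt, mul_one])⟩
      rw [hAc]
      by_cases hne : ∃ q ∈ W, t * q * t ≠ q
      · obtain ⟨q0, hq0, hq0'⟩ := hne
        simp only [hW, Finset.mem_filter, Finset.mem_univ, true_and] at hq0
        have e0 := hq0.2.resolve_left hq0'
        refine (Finset.card_le_card (t := (Finset.univ.filter fun w => w ∈ A) ∪
          (Finset.univ.filter fun w => w ∈ A).image (q0 * ·)) fun q hq => ?_).trans ?_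
        · simp only [hW, Finset.mem_filter, Finset.mem_univ, true_and] at hq
          simp only [Finset.mem_union, Finset.mem_filter, Finset.mem_univ, true_and, Finset.mem_image]
          rcases hq.2 with e | e
          · exact Or.inl (hmemA q hq.1 e)
          · refine Or.inr ⟨q0⁻¹ * q, hmemA _ (Q.mul_mem (Q.inv_mem hq0.1) hq.1) ?_, by group⟩
            calc t * (q0⁻¹ * q) * t = (t⁻¹ * q0 * t⁻¹)⁻¹ * (t⁻¹ * q * t) := by group
              _ = (z * q0)⁻¹ * (z * q) := by rw [ht', e0, e]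
              _ = q0⁻¹ * q := by group
        · refine (Finset.card_union_le _ _).trans ?_
          have := Finset.card_image_le (s := Finset.univ.filter fun w => w ∈ A) (f := (q0 * ·))
          omega
      · push Not at hne
        refine (Finset.card_le_card (t := Finset.univ.filter fun w => w ∈ A) fun q hq => ?_).trans (by omega)
        simp only [Finset.mem_filter, Finset.mem_univ, true_and]
        have hq' := hq
        simp only [hW, Finset.mem_filter, Finset.mem_univ, true_and] at hq'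
        exact hmemA q hq'.1 (hne q hq)
    set J : Finset G := Finset.univ.filter fun y => t * y ∈ Q ∧ y * y = 1 with hJ
    have hJW : J.card ≤ W.card := by
      refine Finset.card_le_card_of_injOn (t * ·) (fun y hy => ?_) (fun y _ w _ e => mul_left_cancel e)
      simp only [hJ, Finset.mem_coe, Finset.mem_filter, Finset.mem_univ, true_and] at hy
      simp only [hW, Finset.mem_coe, Finset.mem_filter, Finset.mem_univ, true_and]
      refine ⟨hy.1, ?_⟩
      have e1 : t * (t * y) * t = (t * y)⁻¹ := by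
        rw [mul_inv_rev, inv_of_sq hy.2, ht', ← mul_assoc t t y, htt, one_mul]
      rw [e1]
      rcases hsq _ hy.1 with e | e
      · exact Or.inl (inv_of_sq e)
      · right
        refine inv_eq_of_mul_eq_one_right ?_
        have hc : t * y * z = z * (t * y) := mem_cent.1 (hle hy.1)
        calc t * y * (z * (t * y)) = t * y * (t * y * z) := by rw [hc]
          _ = (t * y * (t * y)) * z := by group
          _ = 1 := by rw [e, hzz]
    set O : Finset G := Finset.univ.filter fun y => ∃ q ∈ Q, q * t * q⁻¹ = y with hO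
    have hOJ : O ⊆ J := by
      intro y hy
      simp only [hO, Finset.mem_filter, Finset.mem_univ, true_and] at hy
      obtain ⟨q, hq, rfl⟩ := hy
      simp only [hJ, Finset.mem_filter, Finset.mem_univ, true_and]
      refine ⟨?_, conj_sq q htt⟩
      rw [show t * (q * t * q⁻¹) = t * q * t * q⁻¹ by group]
      refine Q.mul_mem ?_ (Q.inv_mem hq)
      have := cQ htz hq
      rwa [ht'] at this
    have horb := card_conj_orbit Q t
    rw [hcard, show Nat.card {y : G // ∃ g ∈ Q, g * t * g⁻¹ = y} = O.card by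
      rw [Nat.card_eq_fintype_card, Fintype.card_subtype]] at horb
    change O.card * Nat.card A = 32 at horb
    have hOle := Finset.card_le_card hOJ
    have hAeq : Nat.card A = 4 := by
      rcases (show Nat.card A = 0 ∨ Nat.card A = 1 ∨ Nat.card A = 2 ∨ Nat.card A = 3 ∨ Nat.card A = 4 by omega)
        with e | e | e | e | e <;> rw [e] at horb hW8 <;> omega
    refine ⟨?_, fun y hy1 hy2 => ?_⟩
    · by_contra hv
      push Not at hv
      have hsub : (Finset.univ.filter fun w => w ∈ A) ⊆ ({1, z} : Finset G) := fun w hw => by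
        simp only [Finset.mem_filter, Finset.mem_univ, true_and] at hw
        simp only [Finset.mem_insert, Finset.mem_singleton]
        by_cases h1 : w = 1
        · exact Or.inl h1
        · exact Or.inr (hv w hw.1 (mem_cent.1 hw.2) (hA2 w hw) h1)
      have h := (Finset.card_le_card hsub).trans Finset.card_le_two
      rw [Nat.card_eq_fintype_card, Fintype.card_subtype] at hAeq
      omega
    · rw [hAeq] at horb hW8
      have he := Finset.eq_of_subset_of_card_le hOJ (by omega)
      have : y ∈ O := by rw [he]; simp [hJ, hy1, hy2]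
      simpa [hO] using this
  obtain ⟨g0, hc0, hne0⟩ := hni
  have ht0Q : g0 * z * g0⁻¹ ∉ Q := fun h => hne0 (hcon g0 h)
  obtain ⟨⟨v, hvQ, hvt, hv2, hv1, hvz⟩, -⟩ := main g0 _ rfl hc0 ht0Q
  have outer : ∀ y, y * z = z * y → y * y = 1 → y ∉ Q → ∃ g, g * z * g⁻¹ = y := by
    intro y hyz hy2 hyQ
    let T : Subgroup.centralizer ({z} : Set G) := ⟨g0 * z * g0⁻¹, mem_cent.2 hc0⟩
    let Y : Subgroup.centralizer ({z} : Set G) := ⟨y, mem_cent.2 hyz⟩
    obtain ⟨σ, hσ⟩ := invol_conj (φ T) (φ Y)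
      (by rw [← map_mul, ← map_one φ]; exact congrArg φ (Subtype.ext (conj_sq g0 hzz)))
      (fun h => ht0Q ((hker T).1 h))
      (by rw [← map_mul, ← map_one φ]; exact congrArg φ (Subtype.ext hy2))
      (fun h => hyQ ((hker Y).1 h))
    obtain ⟨h, rfl⟩ := hsurj σ
    obtain ⟨t, hdef⟩ : ∃ t, t = h * T * h⁻¹ := ⟨_, rfl⟩
    have hφt : φ t = φ Y := by rw [hdef, map_mul, map_mul, map_inv, hσ]
    have htG : (h : G) * g0 * z * ((h : G) * g0)⁻¹ = (t : G) := by
      rw [hdef]
      show _ = (h : G) * (g0 * z * g0⁻¹) * (h : G)⁻¹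
      group
    have htQ : (t : G) ∉ Q := fun e => hyQ ((hker Y).1 (hφt ▸ (hker t).2 e))
    have hty : (t : G) * y ∈ Q := by
      refine (hker (t * Y)).1 ?_
      rw [map_mul, hφt, ← map_mul, ← map_one φ]
      exact congrArg φ (Subtype.ext hy2)
    obtain ⟨q, -, hq⟩ := (main _ _ htG (mem_cent.1 t.2) htQ).2 y hty hy2
    exact ⟨q * ((h : G) * g0), by rw [← hq, ← htG]; group⟩
  have key : ∀ w ∈ Q, w * (g0 * z * g0⁻¹) = g0 * z * g0⁻¹ * w → w * w = 1 → w ≠ z →
      g0⁻¹ * w * g0 ∈ Q := by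
    intro w hw hwt hw2 hwz
    by_contra hn
    obtain ⟨g, hg⟩ := outer (g0⁻¹ * w * g0) (by
      calc g0⁻¹ * w * g0 * z = g0⁻¹ * (w * (g0 * z * g0⁻¹)) * g0 := by group
        _ = _ := by rw [hwt]; group)
      (by calc g0⁻¹ * w * g0 * (g0⁻¹ * w * g0) = g0⁻¹ * (w * w) * g0 := by group
            _ = 1 := by rw [hw2]; group) hn
    have e : g0 * g * z * (g0 * g)⁻¹ = w := by
      rw [← conj_conj, hg]; group
    exact hwz (by rw [← e]; exact hcon _ (by rwa [e]))
  have hvzc : v * z = z * v := mem_cent.1 (hle hvQ)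
  have k1 := key v hvQ hvt hv2 hvz
  have k2 := key (v * z) (Q.mul_mem hvQ hzQ) (Commute.mul_left hvt hc0.symm)
    (by rw [mul_assoc, ← mul_assoc z v, ← hvzc, mul_assoc v z, hzz, mul_one, hv2])
    (fun e => hv1 (mul_right_cancel (e.trans (one_mul z).symm)))
  have h3 := Q.mul_mem (Q.inv_mem k1) k2
  rw [show (g0⁻¹ * v * g0)⁻¹ * (g0⁻¹ * (v * z) * g0) = g0⁻¹ * z * g0⁻¹⁻¹ by group] at h3
  have h4 := hcon g0⁻¹ h3
  apply hne0
  conv_lhs => rw [← h4]
  group

/-- Glauberman's theorem gives a commuting conjugate in a simple group with two classes of involutions. -/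
theorem exists_comm_conj [IsSimpleGroup G] (hz : orderOf z = 2)
    (h2 : ∃ x y : G, orderOf x = 2 ∧ orderOf y = 2 ∧ ¬ IsConj x y) :
    ∃ g : G, g * z * g⁻¹ * z = z * (g * z * g⁻¹) ∧ g * z * g⁻¹ ≠ z := by
  obtain ⟨hzz, hz1⟩ := orderOf_eq_two_iff'.1 hz
  by_contra hno
  push Not at hno
  have hZ := BrauerSuzuki.zStar G z hz fun g hg => hno g hg.symm.eq
  haveI := FittingCores.pPrimeCore_normal (G := G) 2
  rcases IsSimpleGroup.eq_bot_or_eq_top_of_normal (Cfsg.pPrimeCore 2 G) this with h | h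
  · haveI hn : (Subgroup.zpowers z).Normal := ⟨fun w hw g => by
      obtain ⟨n, rfl⟩ := Subgroup.mem_zpowers_iff.1 hw
      have hc : g * z * g⁻¹ = z := by
        have := hZ g
        rw [h, Subgroup.mem_bot, mul_inv_eq_one] at this
        exact this
      refine ⟨n, ?_⟩
      show z ^ n = g * z ^ n * g⁻¹
      rw [← conj_zpow, hc]⟩
    rcases IsSimpleGroup.eq_bot_or_eq_top_of_normal _ hn with e | e
    · exact hz1 (Subgroup.zpowers_eq_bot.1 e)
    · obtain ⟨x, y, hx, hy, hxy⟩ := h2
      have hall : ∀ w : G, orderOf w = 2 → w = z := fun w hw => by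
        obtain ⟨hw2, hw1⟩ := orderOf_eq_two_iff'.1 hw
        obtain ⟨n, hn⟩ := Subgroup.mem_zpowers_iff.1 (e ▸ Subgroup.mem_top w)
        rcases Int.even_or_odd n with ⟨k, rfl⟩ | ⟨k, rfl⟩
        · rw [← two_mul, zpow_mul, zpow_two, hzz, one_zpow] at hn
          exact absurd hn.symm hw1
        · rw [zpow_add, zpow_mul, zpow_two, hzz, one_zpow, one_mul, zpow_one] at hn
          exact hn.symm
      exact hxy (by rw [hall x hx, hall y hy])
  · have hco := FittingCores.pPrimeCore_coprime (G := G) 2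
    rw [h, Subgroup.card_top] at hco
    have hd := hz ▸ orderOf_dvd_natCard z
    have := Nat.eq_one_of_dvd_coprimes hco hd (dvd_refl 2)
    omega

/-- The hypotheses of the involution-centraliser characterisation, with two classes of involutions,
give a group of Hall–Janko type. -/
theorem exists_setup' [IsSimpleGroup G] (t : G) (ht : orderOf t = 2)
    (Q : Subgroup (Subgroup.centralizer ({t} : Set G))) [Q.Normal] (hQ : Cfsg.IsExtraspecial 2 Q)
    (hcard : Nat.card Q = 32)
    (hminus : ∀ E : Subgroup Q, Cfsg.IsElementaryAbelian 2 E → Nat.card E ≤ 2 ^ 2)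
    (h2c : Subgroup.centralizer (Q : Set (Subgroup.centralizer ({t} : Set G))) ≤ Q)
    (e : (Subgroup.centralizer ({t} : Set G)) ⧸ Q ≃* alternatingGroup (Fin 5))
    (htwo : ∃ x y : G, orderOf x = 2 ∧ orderOf y = 2 ∧ ¬ IsConj x y) :
    ∃ φ, Setup t (Q.map (Subgroup.centralizer ({t} : Set G)).subtype) φ := by
  classical
  haveI : Fact (Nat.Prime 2) := ⟨Nat.prime_two⟩
  let φ : ↥(Subgroup.centralizer ({t} : Set G)) →* A5 := e.toMonoidHom.comp (QuotientGroup.mk' Q)
  have hsurj : Function.Surjective φ := e.surjective.comp (QuotientGroup.mk'_surjective Q)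
  have hker : ∀ h, φ h = 1 ↔ h ∈ Q := fun h => by
    show e (QuotientGroup.mk' Q h) = 1 ↔ _
    rw [EmbeddingLike.map_eq_one_iff]
    exact QuotientGroup.eq_one_iff h
  have hP : IsPGroup 2 Q := IsPGroup.of_card (p := 2) (n := 5) (by rw [hcard]; norm_num)
  haveI hN : (Cfsg.pCore 2 ↥(Subgroup.centralizer ({t} : Set G))).Normal := FittingCores.pCore_normal 2
  have hQcore : Cfsg.pCore 2 ↥(Subgroup.centralizer ({t} : Set G)) = Q := by
    refine le_antisymm (fun w hw => ?_) (PBasic.le_pCore inferInstance hP)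
    rw [← hker]
    haveI : IsSimpleGroup A5 := alternatingGroup.isSimpleGroup (by simp)
    have hn : ((Cfsg.pCore 2 ↥(Subgroup.centralizer ({t} : Set G))).map φ).Normal := hN.map φ hsurj
    rcases IsSimpleGroup.eq_bot_or_eq_top_of_normal _ hn with h | h
    · exact Subgroup.mem_bot.1 (h ▸ Subgroup.mem_map_of_mem φ hw)
    · exfalso
      have hp : IsPGroup 2 ((Cfsg.pCore 2 ↥(Subgroup.centralizer ({t} : Set G))).map φ) := (FittingCores.pCore_isPGroup (G := ↥(Subgroup.centralizer ({t} : Set G))) 2).map φ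
      rw [h] at hp
      obtain ⟨n, hn⟩ := IsPGroup.iff_card.1 hp
      rw [Subgroup.card_top, card_A5] at hn
      have : (3 : ℕ) ∣ 2 ^ n := hn ▸ by norm_num
      exact absurd (Nat.prime_three.dvd_of_dvd_pow this) (by norm_num)
  have hF : Cfsg.generalizedFittingSubgroup ↥(Subgroup.centralizer ({t} : Set G)) = Q := by
    rw [← hQcore, Components.generalizedFitting_eq_pCore_iff, hQcore]
    exact h2c
  obtain ⟨x, y, hx, hy, hxy⟩ := htwo
  refine ⟨φ, setup_of t ht Q hF hQ hcard φ hsurj hker (fun _ => ?_) ⟨x, y, hx, hy, hxy⟩⟩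
  obtain ⟨htt, ht1⟩ := orderOf_eq_two_iff'.1 ht
  obtain ⟨⟨hP', hfr, hder⟩, hc2⟩ := hQ
  have hzH : t ∈ (Subgroup.centralizer ({t} : Set G)) := mem_cent.2 rfl
  have hcent : ∀ q : ↥(Subgroup.centralizer ({t} : Set G)), q * ⟨t, hzH⟩ = ⟨t, hzH⟩ * q := fun q => Subtype.ext (mem_cent.1 q.2)
  have hzQ : (⟨t, hzH⟩ : ↥(Subgroup.centralizer ({t} : Set G))) ∈ Q :=
    h2c (Subgroup.mem_centralizer_iff.2 fun q _ => hcent q)
  have hzc : (⟨⟨t, hzH⟩, hzQ⟩ : Q) ∈ Subgroup.center Q :=
    Subgroup.mem_center_iff.2 fun q => Subtype.ext (hcent q.1)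
  refine exists_conj_inQ φ htt ⟨_, hzQ, rfl⟩
    (by rw [Nat.card_congr (Q.equivMapOfInjective _ (Subgroup.centralizer ({t} : Set G)).subtype_injective).toEquiv.symm, hcard])
    (by rintro _ ⟨q, -, rfl⟩; exact q.2) ?_ hsurj
    (fun h => by rw [hker]; exact ⟨fun hq => ⟨h, hq, rfl⟩, fun ⟨q, hq, e⟩ => by rwa [← Subtype.ext e]⟩)
    ?_ (exists_comm_conj ht ⟨x, y, hx, hy, hxy⟩)
  · rintro _ ⟨q, hq, rfl⟩
    obtain ⟨w, hw1, huniq⟩ := (Nat.card_eq_two_iff' (1 : Subgroup.center Q)).1 hc2
    have hsq : (⟨q, hq⟩ : Q) * ⟨q, hq⟩ ∈ Subgroup.center Q := by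
      rw [← hfr, ← pow_two]; exact PGroupBasics.pow_mem_frattini hP' _
    by_cases h1 : (⟨_, hsq⟩ : Subgroup.center Q) = 1
    · left
      exact congrArg (fun w : Subgroup.center Q => (((w : Q) : ↥(Subgroup.centralizer ({t} : Set G))) : G)) h1
    · right
      have e2 := huniq ⟨_, hzc⟩ fun h => ht1 (congrArg (fun w : Subgroup.center Q => (((w : Q) : ↥(Subgroup.centralizer ({t} : Set G))) : G)) h)
      exact congrArg (fun w : Subgroup.center Q => (((w : Q) : ↥(Subgroup.centralizer ({t} : Set G))) : G)) ((huniq _ h1).trans e2.symm)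
  · intro A hA hA2
    have hAH : A ≤ (Subgroup.centralizer ({t} : Set G)) := hA.trans (by rintro _ ⟨q, -, rfl⟩; exact q.2)
    let E : Subgroup Q := (A.subgroupOf (Subgroup.centralizer ({t} : Set G))).subgroupOf Q
    have hAQ : A.subgroupOf (Subgroup.centralizer ({t} : Set G)) ≤ Q := fun w hw => by
      obtain ⟨q, hq, e⟩ := hA (Subgroup.mem_subgroupOf.1 hw)
      rwa [← Subtype.ext e]
    have hEA : Nat.card E = Nat.card A := by
      rw [Nat.card_congr (Subgroup.subgroupOfEquivOfLe hAQ).toEquiv,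
        Nat.card_congr (Subgroup.subgroupOfEquivOfLe hAH).toEquiv]
    rw [← hEA]
    refine hminus E ⟨⟨⟨fun p q => ?_⟩⟩, fun p hp => ?_⟩
    · have hp := hA2 _ (Subgroup.mem_subgroupOf.1 (Subgroup.mem_subgroupOf.1 p.2))
      have hq := hA2 _ (Subgroup.mem_subgroupOf.1 (Subgroup.mem_subgroupOf.1 q.2))
      have hpq : ((((p : E) : Q) : ↥(Subgroup.centralizer ({t} : Set G))) : G) *
          ((((q : E) : Q) : ↥(Subgroup.centralizer ({t} : Set G))) : G) *
          (((((p : E) : Q) : ↥(Subgroup.centralizer ({t} : Set G))) : G) *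
          ((((q : E) : Q) : ↥(Subgroup.centralizer ({t} : Set G))) : G)) = 1 :=
        hA2 _ (Subgroup.mem_subgroupOf.1 (Subgroup.mem_subgroupOf.1 (p * q).2))
      apply Subtype.ext; apply Subtype.ext; apply Subtype.ext
      show ((((p : E) : Q) : ↥(Subgroup.centralizer ({t} : Set G))) : G) *
          ((((q : E) : Q) : ↥(Subgroup.centralizer ({t} : Set G))) : G) = _
      rw [← inv_of_sq hpq, mul_inv_rev, inv_of_sq hp, inv_of_sq hq]
      rfl
    · rw [pow_two]
      exact Subtype.ext (Subtype.ext (hA2 _ (Subgroup.mem_subgroupOf.1 (Subgroup.mem_subgroupOf.1 hp))))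

/-- The same, with the two classes exhausting the involutions. -/
theorem exists_setup [IsSimpleGroup G] (t : G) (ht : orderOf t = 2)
    (Q : Subgroup (Subgroup.centralizer ({t} : Set G))) [Q.Normal] (hQ : Cfsg.IsExtraspecial 2 Q)
    (hcard : Nat.card Q = 32)
    (hminus : ∀ E : Subgroup Q, Cfsg.IsElementaryAbelian 2 E → Nat.card E ≤ 2 ^ 2)
    (h2c : Subgroup.centralizer (Q : Set (Subgroup.centralizer ({t} : Set G))) ≤ Q)
    (e : (Subgroup.centralizer ({t} : Set G)) ⧸ Q ≃* alternatingGroup (Fin 5))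
    (htwo : ∃ x y : G, orderOf x = 2 ∧ orderOf y = 2 ∧ ¬ IsConj x y ∧
      ∀ z : G, orderOf z = 2 → IsConj z x ∨ IsConj z y) :
    ∃ φ, Setup t (Q.map (Subgroup.centralizer ({t} : Set G)).subtype) φ :=
  exists_setup' t ht Q hQ hcard hminus h2c e (by
    obtain ⟨x, y, hx, hy, hxy, -⟩ := htwo
    exact ⟨x, y, hx, hy, hxy⟩)

end Cfsg.Agent.HJUniq
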