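import Cfsg.Agent.Lib.HJUniq.Transfer
import Cfsg.Agent.Lib.HJUniq.Orient

/-!
The ten generators inside a group of Hall–Janko type and the evaluation of words in them.
-/

set_option autoImplicit false
set_option linter.style.haveILetI false
set_option maxRecDepth 20000
set_option synthInstance.maxSize 4000
set_option synthInstance.maxHeartbeats 400000

namespace Cfsg.Agent.HJUniq

open Cfsg.Agent.HJ Cfsg.Agent.CosetCert

/-- `(0 1)(3 4)`. -/
def W0 : A5 := mk5 ![1, 0, 2, 4, 3] ![1, 0, 2, 4, 3] (by decide +kernel) (by decide +kernel) (by decide +kernel)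

/-- The conjugate of `s0`. -/
def s1 : A5 := x0 * s0 * x0⁻¹

/-- Labels of the first four generators. -/
def rho : ℕ → A5 := fun n => [s0, p0, r0].getD n 1

/-- Labels of the generators lying in the component. -/
def rhoK : ℕ → A5 := fun n => [1, 1, 1, s1, W0, W0 * x0, s0].getD n 1

/-- The element of order five of the first configuration. -/
def tA : A5 := s0 * W0 * s1 * W0

/-- The element of order five of the second configuration. -/
def tB : A5 := W0 * (W0 * x0) * W0 * s0

/-- Letters of the centraliser. -/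
def okA (w : List ℕ) : Bool := w.all fun x => decide (x < 4 ∨ (6 ≤ x ∧ x < 10))

/-- Letters of the component. -/
def okB (w : List ℕ) : Bool := w.all fun x => decide (3 ≤ x ∧ x < 7)

/-- Replace the auxiliary letters by their words. -/
def expand (w : List ℕ) : List ℕ := w.flatMap fun x => if x < 4 then [x] else hWords.getD (x - 6) []

theorem expand_lt {w : List ℕ} (hw : okA w = true) : ((expand w).all fun x => Nat.blt x 4) = true := by
  induction w with
  | nil => rfl
  | cons x w ih =>
    rw [okA, List.all_cons, Bool.and_eq_true, decide_eq_true_eq] at hw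
    rw [expand, List.flatMap_cons, List.all_append, Bool.and_eq_true]
    refine ⟨?_, ih hw.2⟩
    rcases hw.1 with h | ⟨h, h'⟩
    · simp [h, Nat.blt_eq]
    · rw [if_neg (by omega)]
      have hl : x - 6 < hWords.length := by
        have : hWords.length = 4 := rfl
        omega
      rw [List.getD_eq_getElem _ _ hl]
      exact List.all_eq_true.1 hWords_lt _ (List.getElem_mem hl)

variable {G : Type*} [Group G]

theorem wprod_congr' {f g : ℕ → G} {w : List ℕ} (h : ∀ x ∈ w, f x = g x) : wprod f w = wprod g w := by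
  rw [wprod, wprod, List.map_congr_left h]

theorem wprod_expand {F : ℕ → G} (hF : HWords F) {w : List ℕ} (hw : okA w = true) :
    wprod F (expand w) = wprod F w := by
  induction w with
  | nil => rfl
  | cons x w ih =>
    rw [okA, List.all_cons, Bool.and_eq_true, decide_eq_true_eq] at hw
    rw [expand, List.flatMap_cons, wprod_append, wprod_cons]
    show _ * wprod F (expand w) = _
    rw [ih hw.2]
    congr 1
    rcases hw.1 with h | ⟨h, h'⟩
    · simp [h, wprod]
    · rw [if_neg (by omega), ← hF (x - 6) (by omega), show 6 + (x - 6) = x by omega]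

/-- The ten generators. -/
def gens (ι κ : A5 →* G) (u : G) : ℕ → G := fun n =>
  [ι s0, ι p0, ι r0, u, κ W0, κ (W0 * x0), κ s0, ι s1, ι (s0 * r0) * u * (ι (s0 * r0))⁻¹,
    ι r0 * u * (ι r0)⁻¹].getD n 1

variable [Finite G] {z : G} {Q : Subgroup G} {φ : ↥(Subgroup.centralizer ({z} : Set G)) →* A5}
  {u a x s f : G} {K V : Subgroup G} {ι κ : A5 →* G}

/-- All the data of an oriented and labelled configuration. -/
structure Cfg (z : G) (Q : Subgroup G) (φ : ↥(Subgroup.centralizer ({z} : Set G)) →* A5)
    (u a x s : G) (K V : Subgroup G) (f : G) (ι κ : A5 →* G) : Prop where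
  C : Ctx z Q φ u a x s K V
  L : Lab z Q u x s f ι
  prod : prod5 ι u = 1
  κK : ∀ τ, κ τ ∈ K
  κs : κ s0 = z
  κx : κ x0 = a

theorem conj_inv_id (g h : G) : (g * h * g⁻¹)⁻¹ = g * h⁻¹ * g⁻¹ := by group

namespace Cfg

variable (c : Cfg z Q φ u a x s K V f ι κ)
include c

omit [Finite G] in
theorem κu : κ s1 = u := by
  rw [s1, map_mul, map_mul, map_inv, c.κx, c.κs, c.C.L.az]

omit [Finite G] in
theorem invol (n : ℕ) : gens ι κ u n * gens ι κ u n = 1 := by
  have hA : ∀ τ : A5, τ * τ = 1 → ι τ * ι τ = 1 := fun τ h => by rw [← map_mul, h, map_one]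
  have hB : ∀ τ : A5, τ * τ = 1 → κ τ * κ τ = 1 := fun τ h => by rw [← map_mul, h, map_one]
  rcases n with _ | _ | _ | _ | _ | _ | _ | _ | _ | _ | n
  · exact hA _ (by decide +kernel)
  · exact hA _ (by decide +kernel)
  · exact hA _ (by decide +kernel)
  · exact c.C.L.hu.2.1
  · exact hB _ (by decide +kernel)
  · exact hB _ (by decide +kernel)
  · exact hB _ (by decide +kernel)
  · exact hA _ (by decide +kernel)
  · exact conj_sq _ c.C.L.hu.2.1
  · exact conj_sq _ c.C.L.hu.2.1
  · simp [gens]

omit [Finite G] c in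
theorem small_iota {w : List ℕ} (hw : (w.all fun x => decide (x < 3)) = true) :
    wprod (gens ι κ u) w = ι (wprod rho w) := by
  rw [← wprod_map]
  refine wprod_congr' fun y hy => ?_
  have h := of_decide_eq_true (List.all_eq_true.1 hw y hy)
  interval_cases y <;> rfl

theorem hwords : HWords (gens ι κ u) := by
  intro i hi
  have hp : ι p0 * ι p0 = 1 := by rw [← map_mul, show p0 * p0 = 1 by decide +kernel, map_one]
  interval_cases i
  · show κ s0 = wprod (gens ι κ u) [1, 3, 1, 3, 1, 3, 1, 3]
    have hpu : (ι p0) * z = z * ι p0 := c.L.cz _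
    have hy := c.C.S.nci_conj hpu c.C.L.hu
    have hne : pt φ (ι p0 * u * (ι p0)⁻¹) ≠ pt φ u := fun e =>
      (show ap p0 4 ≠ 4 by decide +kernel) (c.L.fix' p0 ((c.C.S.pt_eq_iff c.C.L.hu hy).1 e))
    have h := c.C.S.sq_nc hy.1 c.C.L.hu.1 (c.C.S.nc_of_pt_ne hy c.C.L.hu hne)
    rw [hy.2.1, c.C.L.hu.2.1, one_mul, one_mul, inv_of_sq hp] at h
    rw [c.κs, ← h]
    simp only [wprod_cons, wprod_nil, mul_one]
    show _ = ι p0 * (u * (ι p0 * (u * (ι p0 * (u * (ι p0 * u))))))
    simp only [mul_assoc]
  · show ι s1 = wprod (gens ι κ u) [1, 2, 1, 2, 1]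
    rw [small_iota (by decide)]
    exact congrArg ι (by decide +kernel)
  · show ι (s0 * r0) * u * (ι (s0 * r0))⁻¹ = wprod (gens ι κ u) [0, 2, 3, 2, 0]
    rw [← map_inv, show (s0 * r0)⁻¹ = r0 * s0 by decide +kernel, map_mul, map_mul]
    simp only [wprod_cons, wprod_nil, mul_one]
    show _ = ι s0 * (ι r0 * (u * (ι r0 * ι s0)))
    simp only [mul_assoc]
  · show ι r0 * u * (ι r0)⁻¹ = wprod (gens ι κ u) [2, 3, 2]
    rw [← map_inv, show r0⁻¹ = r0 by decide +kernel]
    simp only [wprod_cons, wprod_nil, mul_one]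
    show _ = ι r0 * (u * ι r0)
    simp only [mul_assoc]

theorem relH : RelH (gens ι κ u) := by
  refine ⟨c.invol, fun w hw => ?_, fun w hw => ?_⟩
  · have h : (CosetData.HJA.base.all fun w => (w.all fun x => decide (x < 3)) && decide (wprod rho w = 1)) = true := by
      decide +kernel
    have h' := List.all_eq_true.1 h w hw
    rw [Bool.and_eq_true, decide_eq_true_eq] at h'
    rw [small_iota h'.1, h'.2, map_one]
  · simp only [CosetData.HJH.base, List.mem_cons, List.not_mem_nil, or_false] at hw
    have hz := fun (v : List ℕ) (h1 : (v.all fun x => decide (x < 3)) = true) (h2 : wprod rho v = 1) =>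
      (small_iota (ι := ι) (κ := κ) (u := u) h1).trans (by rw [h2, map_one] : ι (wprod rho v) = (1 : G))
    rcases hw with rfl | rfl | rfl | rfl | rfl | rfl | rfl
    · exact hz _ (by decide) (by decide +kernel)
    · exact hz _ (by decide) (by decide +kernel)
    · exact hz _ (by decide) (by decide +kernel)
    · exact hz _ (by decide) (by decide +kernel)
    · simp only [wprod_cons, wprod_nil, mul_one]
      show u * (ι s0 * (u * ι s0)) = 1
      have hs : ι s0 * ι s0 = 1 := by rw [← map_mul, show s0 * s0 = 1 by decide +kernel, map_one]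
      rw [c.L.is] at hs ⊢
      calc u * (s * (u * s)) = u * (s * u) * s := by group
        _ = u * u * (s * s) := by rw [c.C.L.su]; group
        _ = 1 := by rw [c.C.L.hu.2.1, hs, one_mul]
    · rw [show [3, 1, 2, 0, 1, 3, 1, 0, 2, 1] = [3] ++ ([1, 2, 0, 1] ++ ([3] ++ [1, 0, 2, 1])) from rfl,
        wprod_append, wprod_append, wprod_append, small_iota (w := [1, 2, 0, 1]) (by decide),
        small_iota (w := [1, 0, 2, 1]) (by decide),
        show wprod rho [1, 2, 0, 1] = x0 by decide +kernel,
        show wprod rho [1, 0, 2, 1] = x0⁻¹ by decide +kernel, map_inv, c.L.ix, wprod_cons, wprod_nil, mul_one]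
      show u * (x * (u * x⁻¹)) = 1
      calc u * (x * (u * x⁻¹)) = u * (x * u) * x⁻¹ := by group
        _ = u * u := by rw [c.C.L.xu]; group
        _ = 1 := c.C.L.hu.2.1
    · obtain ⟨-, -, h4⟩ := yy_facts c.C c.L
      have hq : ι p0 * ι r0 = ι q0 := (map_mul ι p0 r0).symm
      have hq' : ι r0 * ι p0 = (ι q0)⁻¹ := by
        rw [← map_mul, ← map_inv]
        exact congrArg ι (by decide +kernel)
      have key : ι q0 * u * (ι q0 * u) * (ι q0 * u) * (ι q0 * u) *
          ((ι q0)⁻¹ * (ι q0)⁻¹ * (ι q0)⁻¹ * (ι q0)⁻¹) * u = 1 := by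
        have h := c.prod
        rw [prod5, h4] at h
        rw [← h, yy, yy, yy, yy]
        simp only [map_pow]
        group
      rw [← key, ← hq', ← hq]
      simp only [wprod_cons, wprod_nil, mul_one]
      simp only [mul_assoc]
      rfl

/-- Words in the component. -/
theorem wordB {w : List ℕ} (hw : okB w = true) : wprod (gens ι κ u) w = κ (wprod rhoK w) := by
  rw [← wprod_map]
  refine wprod_congr' fun y hy => ?_
  obtain ⟨h1, h2⟩ := of_decide_eq_true (List.all_eq_true.1 hw y hy)
  interval_cases y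
  · exact c.κu.symm
  all_goals rfl

end Cfg

end Cfsg.Agent.HJUniq
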